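import Groth.Agent.AbVar.K518.Basic
import Groth.Agent.Grpsch.CubePow
import Groth.Agent.Sga7.H496.SeeSaw
import Mathlib.AlgebraicGeometry.Group.Abelian
import Mathlib.AlgebraicGeometry.AlgClosed.Basic

/-!
# The homomorphism `φ_L : A(K) → Pic(A)` of an abelian variety

`A` an abelian variety over a field `K` (proper, geometrically integral group scheme); `Pt A = A(K)`,
`tr x = (y ↦ y + x)`, `phi L x = t_x^* L · L⁻¹ ∈ Pic A`.

* `phi_mul`, `phi_mul_left`: additivity in `x` (theorem of the square) and in `L`.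
* `phi_pl`: `φ_{f^*L}(x) = f^* φ_L(f x)` for a homomorphism `f`.
* `Inv A`: the subgroup of translation-invariant classes; `phi_mem_Inv`.
* `pl_mul_of_inv` (`K` algebraically closed): `(f + g)^* c = f^* c + g^* c` for `c ∈ Inv A`.
-/

set_option autoImplicit false
universe u

open CategoryTheory Limits MonoidalCategory CartesianMonoidalCategory AlgebraicGeometry
open scoped MonObj
open Groth.Agent.Grpsch.PicGrp Groth.Agent.Grpsch.Cube

namespace K518.Phi

variable {K : Type u} [Field K] {A B : Over (Spec (CommRingCat.of K))}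

/-- The group of `K`-points. -/
abbrev Pt (A : Over (Spec (CommRingCat.of K))) : Type u := 𝟙_ (Over (Spec (CommRingCat.of K))) ⟶ A

/-- Translation by a point: `y ↦ y + x`. -/
noncomputable abbrev tr [GrpObj A] (x : Pt A) : A ⟶ A := 𝟙 A * (toUnit A ≫ x)

theorem pl_const {T : Over (Spec (CommRingCat.of K))} (x : Pt A) (L : Pic A.left) : pl (toUnit T ≫ x) L = 1 := by
  rw [pl_comp]
  have : pl x L = 1 := pic_spec_local K _
  rw [this, map_one]

@[simp] theorem pl_id (L : Pic A.left) : pl (𝟙 A) L = L := pull_id L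

variable [GrpObj A] [GrpObj B]

theorem tr_one : tr (1 : Pt A) = 𝟙 A := by
  change 𝟙 A * (toUnit A ≫ 1) = 𝟙 A
  rw [MonObj.comp_one, mul_one]

theorem tr_comp_tr (x y : Pt A) : tr y ≫ tr x = tr (y * x) := by
  change tr y ≫ (𝟙 A * (toUnit A ≫ x)) = 𝟙 A * (toUnit A ≫ (y * x))
  rw [MonObj.comp_mul, Category.comp_id, ← Category.assoc, Subsingleton.elim (tr y ≫ toUnit A) (toUnit A),
    MonObj.comp_mul, ← mul_assoc]

theorem tr_comp (f : A ⟶ B) [IsMonHom f] (x : Pt A) : tr x ≫ f = f ≫ tr (x ≫ f) := by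
  change (𝟙 A * (toUnit A ≫ x)) ≫ f = f ≫ (𝟙 B * (toUnit B ≫ x ≫ f))
  rw [MonObj.mul_comp, MonObj.comp_mul, Category.id_comp, Category.comp_id, Category.assoc,
    ← Category.assoc f, Subsingleton.elim (f ≫ toUnit B) (toUnit A)]

/-- `φ_L(x) = t_x^* L · L⁻¹`. -/
noncomputable def phi (L : Pic A.left) (x : Pt A) : Pic A.left := pl (tr x) L * L⁻¹

theorem pl_tr (L : Pic A.left) (x : Pt A) : pl (tr x) L = phi L x * L := by
  rw [phi, inv_mul_cancel_right]

@[simp] theorem phi_one_left (x : Pt A) : phi (1 : Pic A.left) x = 1 := by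
  rw [phi, map_one, inv_one, mul_one]

@[simp] theorem phi_one (L : Pic A.left) : phi L 1 = 1 := by
  rw [phi, tr_one, pl_id, mul_inv_cancel]

theorem phi_mul_left (L M : Pic A.left) (x : Pt A) : phi (L * M) x = phi L x * phi M x := by
  rw [phi, phi, phi, map_mul, mul_inv]
  exact mul_mul_mul_comm _ _ _ _

theorem phi_inv_left (L : Pic A.left) (x : Pt A) : phi L⁻¹ x = (phi L x)⁻¹ := by
  rw [eq_inv_iff_mul_eq_one, ← phi_mul_left, inv_mul_cancel, phi_one_left]

theorem phi_pow_left (L : Pic A.left) (n : ℕ) (x : Pt A) : phi (L ^ n) x = phi L x ^ n := by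
  induction n with
  | zero => rw [pow_zero, pow_zero, phi_one_left]
  | succ n ih => rw [pow_succ, pow_succ, phi_mul_left, ih]

theorem phi_zpow_left (L : Pic A.left) (n : ℤ) (x : Pt A) : phi (L ^ n) x = phi L x ^ n := by
  cases n with
  | ofNat n => rw [Int.ofNat_eq_natCast, zpow_natCast, zpow_natCast, phi_pow_left]
  | negSucc n => rw [zpow_negSucc, zpow_negSucc, phi_inv_left, phi_pow_left]

/-- `φ_{f^*L}(x) = f^* φ_L(f(x))` for a homomorphism `f`. -/
theorem phi_pl (f : A ⟶ B) [IsMonHom f] (L : Pic B.left) (x : Pt A) :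
    phi (pl f L) x = pl f (phi L (x ≫ f)) := by
  rw [phi, phi, map_mul, map_inv, ← pl_comp, ← pl_comp, tr_comp]

section Square

variable [IsProper A.hom] [GeometricallyIntegral A.hom]

/-- Theorem of the square. -/
theorem phi_mul (L : Pic A.left) (x y : Pt A) : phi L (x * y) = phi L x * phi L y := by
  have h := cube L (𝟙 A) (toUnit A ≫ x) (toUnit A ≫ y)
  rw [← MonObj.comp_mul, pl_const, pl_const, pl_const, mul_one, mul_one, mul_one, mul_assoc (𝟙 A),
    ← MonObj.comp_mul, pl_id] at h
  change pl (tr (x * y)) L * L = pl (tr x) L * pl (tr y) L at h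
  have h' := congrArg Additive.ofMul h
  apply Additive.ofMul.injective
  simp only [phi, ofMul_mul, ofMul_inv] at h' ⊢
  linear_combination (norm := module) h'

/-- `φ_L` as a homomorphism. -/
noncomputable def phiHom (L : Pic A.left) : Pt A →* Pic A.left where
  toFun := phi L
  map_one' := phi_one L
  map_mul' := phi_mul L

@[simp] theorem phiHom_apply (L : Pic A.left) (x : Pt A) : phiHom L x = phi L x := rfl

theorem phi_pow (L : Pic A.left) (x : Pt A) (n : ℕ) : phi L (x ^ n) = phi L x ^ n := map_pow (phiHom L) x n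
theorem phi_zpow (L : Pic A.left) (x : Pt A) (n : ℤ) : phi L (x ^ n) = phi L x ^ n := map_zpow (phiHom L) x n
theorem phi_inv (L : Pic A.left) (x : Pt A) : phi L x⁻¹ = (phi L x)⁻¹ := map_inv (phiHom L) x

end Square

/-! ### Translation-invariant classes -/

variable (A) in
/-- The subgroup of translation-invariant classes. -/
noncomputable def Inv : Subgroup (Pic A.left) where
  carrier := {L | ∀ x : Pt A, phi L x = 1}
  one_mem' := phi_one_left
  mul_mem' {L M} hL hM x := by rw [phi_mul_left, hL, hM, mul_one]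
  inv_mem' {L} hL x := by rw [phi_inv_left, hL, inv_one]

theorem mem_Inv {L : Pic A.left} : L ∈ Inv A ↔ ∀ x : Pt A, phi L x = 1 := Iff.rfl

theorem mem_Inv_iff {L : Pic A.left} : L ∈ Inv A ↔ ∀ x : Pt A, pl (tr x) L = L := by
  simp only [mem_Inv, phi, mul_inv_eq_one]

/-- Two classes have the same `φ` iff they differ by a translation-invariant class. -/
theorem phi_eq_iff {L M : Pic A.left} : (∀ x : Pt A, phi L x = phi M x) ↔ L * M⁻¹ ∈ Inv A := by
  simp only [mem_Inv, phi_mul_left, phi_inv_left, mul_inv_eq_one]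

theorem pl_mem_Inv (f : A ⟶ B) [IsMonHom f] {L : Pic B.left} (hL : L ∈ Inv B) : pl f L ∈ Inv A := fun x => by
  rw [phi_pl, hL, map_one]

theorem phi_mem_Inv [IsProper A.hom] [GeometricallyIntegral A.hom] (L : Pic A.left) (x : Pt A) :
    phi L x ∈ Inv A := by
  intro y
  have h1 : pl (tr y) (phi L x) = phi L x := by
    have h2 : pl (tr y) (phi L x) = (phi L y * phi L x * L) * (phi L y * L)⁻¹ := by
      have h3 : pl (tr y) (phi L x) = pl (tr y) (pl (tr x) L * L⁻¹) := rfl
      rw [h3, map_mul, map_inv, ← pl_comp, tr_comp_tr, pl_tr, pl_tr, phi_mul]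
    rw [h2]
    apply Additive.ofMul.injective
    simp only [ofMul_mul, ofMul_inv]
    module
  rw [phi, h1, mul_inv_cancel]

/-! ### Additivity on translation-invariant classes -/

section AlgClosed

variable [IsAlgClosed K]

omit [GrpObj A] in
/-- Over an algebraically closed field every closed point is a `K`-point. -/
theorem exists_pt [LocallyOfFiniteType A.hom] (a : A.left) (ha : IsClosed ({a} : Set A.left)) :
    ∃ x : Pt A, x.left (IsLocalRing.closedPoint K) = a := by
  refine ⟨Over.homMk (pointOfClosedPoint A.hom a ha) (by simp), ?_⟩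
  simp

omit [GrpObj A] in
theorem dense_pts [LocallyOfFiniteType A.hom] : Dense {a : A.left | ∃ w ∈ (Set.univ : Set (Pt A)), a ∈ Set.range w.left} := by
  have : JacobsonSpace A.left := LocallyOfFiniteType.jacobsonSpace (Y := Spec _) A.hom
  refine Dense.mono ?_ (dense_iff_closure_eq.mpr closure_closedPoints : Dense (closedPoints A.left))
  intro a ha
  obtain ⟨x, hx⟩ := exists_pt a ha
  exact ⟨x, trivial, _, hx⟩

variable [IsProper A.hom] [GeometricallyIntegral A.hom]

theorem pl_mu_of_inv {c : Pic A.left} (hc : c ∈ Inv A) :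
    pl (μ[A] : A ⊗ A ⟶ A) c = pl (fst A A) c * pl (snd A A) c := by
  have : IsCommMonObj A := isCommMonObj_of_isProper_of_geometricallyIntegral A
  refine Groth.Agent.Sga7.H496.SeeSaw.pull_mul c Set.univ dense_pts fun w _ => ?_
  rw [mul_comm]
  exact mem_Inv_iff.mp hc w

/-- `(f + g)^* c = f^* c + g^* c` for a translation-invariant class. -/
theorem pl_mul_of_inv {c : Pic A.left} (hc : c ∈ Inv A) {T : Over (Spec (CommRingCat.of K))} (f g : T ⟶ A) :
    pl (f * g) c = pl f c * pl g c := by
  have e : f * g = lift f g ≫ μ[A] := rfl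
  rw [e, pl_comp, pl_mu_of_inv hc, map_mul, ← pl_comp, ← pl_comp, lift_fst, lift_snd]

/-- A translation-invariant class as a homomorphism on `T`-points. -/
noncomputable def invHom {c : Pic A.left} (hc : c ∈ Inv A) (T : Over (Spec (CommRingCat.of K))) :
    (T ⟶ A) →* Pic T.left where
  toFun f := pl f c
  map_one' := pl_one c
  map_mul' f g := pl_mul_of_inv hc f g

theorem pl_pow_of_inv {c : Pic A.left} (hc : c ∈ Inv A) {T : Over (Spec (CommRingCat.of K))} (f : T ⟶ A) (n : ℕ) :
    pl (f ^ n) c = pl f c ^ n := map_pow (invHom hc T) f n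

theorem pl_zpow_of_inv {c : Pic A.left} (hc : c ∈ Inv A) {T : Over (Spec (CommRingCat.of K))} (f : T ⟶ A) (n : ℤ) :
    pl (f ^ n) c = pl f c ^ n := map_zpow (invHom hc T) f n

theorem pl_inv_of_inv {c : Pic A.left} (hc : c ∈ Inv A) {T : Over (Spec (CommRingCat.of K))} (f : T ⟶ A) :
    pl f⁻¹ c = (pl f c)⁻¹ := map_inv (invHom hc T) f

end AlgClosed

/-! ### The biadditive form attached to a class -/

section Form

variable {T T' : Over (Spec (CommRingCat.of K))}

/-- `D_L(f, g) = (f + g)^* L - f^* L - g^* L`. -/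
noncomputable def D (L : Pic A.left) (f g : T ⟶ A) : Pic T.left := pl (f * g) L * (pl f L)⁻¹ * (pl g L)⁻¹

theorem pl_mul (L : Pic A.left) (f g : T ⟶ A) : pl (f * g) L = pl f L * pl g L * D L f g := by
  apply Additive.ofMul.injective
  simp only [D, ofMul_mul, ofMul_inv]
  module

theorem pl_D (L : Pic A.left) (h : T' ⟶ T) (f g : T ⟶ A) : pl h (D L f g) = D L (h ≫ f) (h ≫ g) := by
  rw [D, D, map_mul, map_mul, map_inv, map_inv, ← pl_comp, ← pl_comp, ← pl_comp, MonObj.comp_mul]

theorem D_one_left (L : Pic A.left) (g : T ⟶ A) : D L 1 g = 1 := by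
  rw [D, one_mul, pl_one, inv_one, mul_one, mul_inv_cancel]

theorem D_one_right (L : Pic A.left) (f : T ⟶ A) : D L f 1 = 1 := by
  rw [D, mul_one, pl_one, inv_one, mul_one, mul_inv_cancel]

theorem D_one_class (f g : T ⟶ A) : D (1 : Pic A.left) f g = 1 := by
  simp [D]

theorem D_mul_class (L M : Pic A.left) (f g : T ⟶ A) : D (L * M) f g = D L f g * D M f g := by
  apply Additive.ofMul.injective
  simp only [D, map_mul, ofMul_mul, ofMul_inv]
  module

theorem D_pow_class (L : Pic A.left) (n : ℕ) (f g : T ⟶ A) : D (L ^ n) f g = D L f g ^ n := by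
  induction n with
  | zero => rw [pow_zero, pow_zero, D_one_class]
  | succ n ih => rw [pow_succ, pow_succ, D_mul_class, ih]

/-- `D_L(id, x) = φ_L(x)`. -/
theorem D_id_const (L : Pic A.left) (x : Pt A) : D L (𝟙 A) (toUnit A ≫ x) = phi L x := by
  rw [D, pl_const, inv_one, mul_one, pl_id]
  rfl

/-- `D_L(f, x) = f^* φ_L(x)`. -/
theorem D_const_right (L : Pic A.left) (f : T ⟶ A) (x : Pt A) : D L f (toUnit T ≫ x) = pl f (phi L x) := by
  rw [← D_id_const, pl_D, Category.comp_id, ← Category.assoc, Subsingleton.elim (f ≫ toUnit A) (toUnit T)]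

section Comm

theorem D_comm [IsCommMonObj A] (L : Pic A.left) (f g : T ⟶ A) : D L f g = D L g f := by
  rw [D, D, mul_comm f g, mul_assoc, mul_assoc, mul_comm (pl f L)⁻¹]

theorem D_const_left [IsCommMonObj A] (L : Pic A.left) (f : T ⟶ A) (x : Pt A) :
    D L (toUnit T ≫ x) f = pl f (phi L x) := by
  rw [D_comm, D_const_right]

end Comm

variable [IsProper A.hom] [GeometricallyIntegral A.hom]

theorem D_mul_left (L : Pic A.left) (f g h : T ⟶ A) : D L (f * g) h = D L f h * D L g h := by
  have h := congrArg Additive.ofMul (cube L f g h)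
  apply Additive.ofMul.injective
  simp only [D, ofMul_mul, ofMul_inv] at h ⊢
  linear_combination (norm := module) h

theorem D_mul_right (L : Pic A.left) (f g h : T ⟶ A) : D L f (g * h) = D L f g * D L f h := by
  have h := congrArg Additive.ofMul (cube L f g h)
  apply Additive.ofMul.injective
  simp only [D, ofMul_mul, ofMul_inv, ← mul_assoc] at h ⊢
  linear_combination (norm := module) h

/-- `D_L` as a bi-additive map. -/
noncomputable def Dhom (L : Pic A.left) (f : T ⟶ A) : (T ⟶ A) →* Pic T.left where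
  toFun g := D L f g
  map_one' := D_one_right L f
  map_mul' g h := D_mul_right L f g h

theorem D_pow_right (L : Pic A.left) (f g : T ⟶ A) (n : ℕ) : D L f (g ^ n) = D L f g ^ n :=
  map_pow (Dhom L f) g n

theorem D_zpow_right (L : Pic A.left) (f g : T ⟶ A) (n : ℤ) : D L f (g ^ n) = D L f g ^ n :=
  map_zpow (Dhom L f) g n

/-- `D_L` as an additive map in the first variable. -/
noncomputable def Dhom' (L : Pic A.left) (g : T ⟶ A) : (T ⟶ A) →* Pic T.left where
  toFun f := D L f g
  map_one' := D_one_left L g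
  map_mul' f h := D_mul_left L f h g

theorem D_pow_left (L : Pic A.left) (f g : T ⟶ A) (n : ℕ) : D L (f ^ n) g = D L f g ^ n :=
  map_pow (Dhom' L g) f n

theorem D_zpow_left (L : Pic A.left) (f g : T ⟶ A) (n : ℤ) : D L (f ^ n) g = D L f g ^ n :=
  map_zpow (Dhom' L g) f n

end Form

/-! ### See-saw -/

section Seesaw

variable [IsAlgClosed K] [IsProper A.hom] [GeometricallyIntegral A.hom] [IsProper B.hom]
  [GeometricallyIntegral B.hom]

/-- See-saw principle for a product of two abelian varieties. -/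
theorem seesaw (M : Pic (A ⊗ B).left) (h : ∀ w : Pt A, pl (lift (toUnit B ≫ w) (𝟙 B)) M = 1)
    (h' : pl (lift (𝟙 A) (1 : A ⟶ B)) M = 1) : M = 1 := by
  have hsm : Smooth A.hom := by
    let _ : GrpObj (Over.mk A.hom) := inferInstanceAs (GrpObj A)
    exact smooth_of_grpObj A.hom
  have hno : IsLocallyNoetherian A.left := LocallyOfFiniteType.isLocallyNoetherian A.hom
  have hfst : (fst A B).left = pullback.fst A.hom B.hom := rfl
  have i1 : Flat (fst A B).left := by rw [hfst]; infer_instance
  have i2 : IsProper (fst A B).left := by rw [hfst]; infer_instance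
  have i3 : LocallyOfFinitePresentation (fst A B).left := by rw [hfst]; infer_instance
  have i4 : GeometricallyIntegral (fst A B).left := by rw [hfst]; infer_instance
  obtain ⟨d, hd⟩ := Groth.Agent.Sga7.H496.SeeSaw.exists_pull (fst A B).left
    (Groth.Agent.Sga7.H496.SeeSaw.isNormalScheme_of_smooth A.hom) M _ dense_pts (by
    rintro x ⟨w, -, hx⟩
    have h1 := Groth.Agent.Sga7.H496.SeeSaw.fromSpecResidueField_section w.left A.hom (Over.w w) x hx
    have h2 : (fst A B).left.fiberι x =
        ((fst A B).left.fiberι x ≫ (snd A B).left) ≫ (lift (toUnit B ≫ w) (𝟙 B)).left := by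
      apply pullback.hom_ext
      · rw [Category.assoc, ← Over.fst_left, ← Over.comp_left, lift_fst, Over.comp_left, Over.toUnit_left,
          Category.assoc]
        have e1 : (fst A B).left.fiberι x ≫ (fst A B).left =
            ((fst A B).left.fiberι x ≫ (snd A B).left) ≫ B.hom ≫ w.left := by
          have e2 : (snd A B).left ≫ B.hom = (fst A B).left ≫ A.hom := (Over.w (snd A B)).trans (Over.w (fst A B)).symm
          rw [Category.assoc, reassoc_of% e2, Scheme.Hom.fiber_fac_assoc, Scheme.Hom.fiber_fac]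
          conv_lhs => rw [h1]
          rw [Category.assoc]
        rw [e1, Category.assoc]
      · rw [Category.assoc, ← Over.snd_left, ← Over.comp_left, lift_snd, Over.id_left, Category.comp_id]
    rw [h2, pull_comp]
    have h3 := h w
    rw [pl] at h3
    rw [h3, map_one])
  rw [← hd] at h' ⊢
  rw [pl, ← pull_comp, ← Over.comp_left, lift_fst, Over.id_left, pull_id] at h'
  rw [h', map_one]

/-- Adjointness transfer: if `φ_L(ρ x) = α^* φ_L(x)^n` for all points `x`, then
`D_L(a, ρ b) = D_L(α a, b)^n` for all `T`-points `a, b`. -/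
theorem D_adj (L : Pic A.left) (M : Pic B.left) (α : A ⟶ B) (ρ : B ⟶ A) [IsMonHom α] [IsMonHom ρ] (n : ℕ)
    (h : ∀ x : Pt B, phi L (x ≫ ρ) = pl α (phi M x) ^ n) {T : Over (Spec (CommRingCat.of K))} (a : T ⟶ A)
    (b : T ⟶ B) : D L a (b ≫ ρ) = D M (a ≫ α) b ^ n := by
  have : IsCommMonObj A := isCommMonObj_of_isProper_of_geometricallyIntegral A
  have : IsCommMonObj B := isCommMonObj_of_isProper_of_geometricallyIntegral B
  have key : D L (snd B A) (fst B A ≫ ρ) * (D M (snd B A ≫ α) (fst B A) ^ n)⁻¹ = 1 := by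
    apply seesaw
    · intro w
      rw [map_mul, map_inv, map_pow, pl_D, pl_D, lift_snd, ← Category.assoc, lift_fst,
        ← Category.assoc, lift_snd, Category.id_comp, Category.assoc, D_const_right, D_const_right, pl_id, h w,
        mul_inv_cancel]
    · rw [map_mul, map_inv, map_pow, pl_D, pl_D, ← Category.assoc, ← Category.assoc, lift_snd, lift_fst,
        MonObj.one_comp, D_one_left, D_one_left, one_pow, inv_one, mul_one]
  have key2 := congrArg (pl (lift b a)) key
  rw [map_mul, map_inv, map_pow, pl_D, pl_D, ← Category.assoc, ← Category.assoc, lift_fst, lift_snd, map_one,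
    mul_inv_eq_one] at key2
  exact key2

/-- The transfer on points: `ρ^* φ_L(x) = φ_M(α x)^n`. -/
theorem phi_adj (L : Pic A.left) (M : Pic B.left) (α : A ⟶ B) (ρ : B ⟶ A) [IsMonHom α] [IsMonHom ρ] (n : ℕ)
    (h : ∀ x : Pt B, phi L (x ≫ ρ) = pl α (phi M x) ^ n) (x : Pt A) :
    pl ρ (phi L x) = phi M (x ≫ α) ^ n := by
  have : IsCommMonObj A := isCommMonObj_of_isProper_of_geometricallyIntegral A
  have : IsCommMonObj B := isCommMonObj_of_isProper_of_geometricallyIntegral B
  have h1 := D_adj L M α ρ n h (toUnit B ≫ x) (𝟙 B)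
  rwa [Category.id_comp, D_const_left, Category.assoc, D_const_left, pl_id] at h1

end Seesaw

end K518.Phi
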