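import Groth.Agent.AbVar.K518.Phi

/-!
# Points over an algebraically closed field

`hom_ext_pts`: morphisms of reduced schemes locally of finite type are determined by their values on `K`-points.
-/

set_option autoImplicit false
universe u

open CategoryTheory Limits MonoidalCategory CartesianMonoidalCategory AlgebraicGeometry
open scoped MonObj
open K518.Phi

namespace K518.Points

variable {K : Type u} [Field K] [IsAlgClosed K] {A B : Over (Spec (CommRingCat.of K))}

/-- The topological point underlying a `K`-point. -/
noncomputable abbrev pt (x : Pt A) : A.left := x.left (IsLocalRing.closedPoint K)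

theorem isClosed_pt [LocallyOfFiniteType A.hom] (x : Pt A) : IsClosed ({pt x} : Set A.left) :=
  (pointEquivClosedPoint A.hom ⟨x.left, Over.w x⟩).2

theorem pt_ext [LocallyOfFiniteType A.hom] {x y : Pt A} (h : pt x = pt y) : x = y := by
  ext1
  exact ext_of_apply_closedPoint_eq A.hom (Over.w x) (Over.w y) h

theorem pt_comp (x : Pt A) (f : A ⟶ B) : pt (x ≫ f) = f.left (pt x) := by
  rw [pt, Over.comp_left, Scheme.Hom.comp_apply]

/-- Morphisms are determined by their values on `K`-points. -/
theorem hom_ext_pts [LocallyOfFiniteType A.hom] [IsReduced A.left] [LocallyOfFiniteType B.hom] [IsSeparated B.hom]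
    {f g : A ⟶ B} (h : ∀ x : Pt A, x ≫ f = x ≫ g) : f = g := by
  ext1
  have hw : f.left ≫ B.hom = g.left ≫ B.hom := (Over.w f).trans (Over.w g).symm
  have : LocallyOfFiniteType (f.left ≫ B.hom) := by rw [Over.w]; infer_instance
  refine ext_of_apply_eq B.hom Set.univ isOpen_univ.isLocallyClosed dense_univ (fun a _ ha => ?_) hw
  obtain ⟨x, rfl⟩ := exists_pt a ha
  have := congrArg pt (h x)
  rwa [pt_comp, pt_comp] at this

/-- A nontrivial homomorphism does not kill all points. -/
theorem exists_pt_ne_one [GrpObj A] [GrpObj B] [LocallyOfFiniteType A.hom] [IsReduced A.left]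
    [LocallyOfFiniteType B.hom] [IsSeparated B.hom] {f : A ⟶ B} (h : f ≠ 1) : ∃ x : Pt A, x ≫ f ≠ 1 := by
  by_contra! hc
  exact h (hom_ext_pts fun x => by rw [hc, MonObj.comp_one])

end K518.Points
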