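import Groth.Agent.Fga.DimCut
import Groth.Agent.Grpsch.MulFlat
import Groth.Agent.Sga3.H794.ChevKer
import Groth.Agent.AbVar.K518.Points
import Mathlib.RingTheory.Ideal.KrullsHeightTheorem
import Mathlib.RingTheory.Ideal.GoingDown

/-!
# Surjective homomorphisms between abelian varieties of the same dimension are finite
-/

set_option autoImplicit false
universe u

open CategoryTheory CategoryTheory.Limits AlgebraicGeometry Opposite TopologicalSpace
open Groth.Agent

namespace K518.FinSurj

/-- A flat local homomorphism between Noetherian local rings of the same finite dimension: only the maximal ideal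
contracts to the maximal ideal. -/
theorem eq_maximalIdeal {R S : Type u} [CommRing R] [CommRing S] [IsLocalRing R] [IsLocalRing S] [IsNoetherianRing R]
    [IsNoetherianRing S] [Algebra R S] [Module.Flat R S] [IsLocalHom (algebraMap R S)] (r : ℕ)
    (hR : ringKrullDim R = r) (hS : ringKrullDim S = r) (q : Ideal S) [hqp : q.IsPrime]
    (hq : q.comap (algebraMap R S) = IsLocalRing.maximalIdeal R) : q = IsLocalRing.maximalIdeal S := by
  have hlo : (IsLocalRing.maximalIdeal S).LiesOver (IsLocalRing.maximalIdeal R) := inferInstance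
  have h1 := Ideal.height_eq_height_add_of_liesOver_of_hasGoingDown (IsLocalRing.maximalIdeal R) (IsLocalRing.maximalIdeal S)
  have h2 : ((IsLocalRing.maximalIdeal S).height : WithBot ℕ∞) = r := by
    rw [IsLocalRing.maximalIdeal_height_eq_ringKrullDim, ← hS]
  have h3 : ((IsLocalRing.maximalIdeal R).height : WithBot ℕ∞) = r := by
    rw [IsLocalRing.maximalIdeal_height_eq_ringKrullDim, ← hR]
  have h2' : (IsLocalRing.maximalIdeal S).height = r := by exact_mod_cast h2
  have h3' : (IsLocalRing.maximalIdeal R).height = r := by exact_mod_cast h3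
  rw [h2', h3'] at h1
  set J := (IsLocalRing.maximalIdeal R).map (algebraMap R S) with hJ
  have h7 : J ≤ q := by
    rw [hJ, Ideal.map_le_iff_le_comap, hq]
  have h8 : q ≤ IsLocalRing.maximalIdeal S := IsLocalRing.le_maximalIdeal hqp.ne_top
  have h4 : ((IsLocalRing.maximalIdeal S).map (Ideal.Quotient.mk J)).height = 0 := by
    generalize ((IsLocalRing.maximalIdeal S).map (Ideal.Quotient.mk J)).height = e at h1
    induction e using ENat.recTopCoe with
    | top => simp at h1
    | coe e =>
      have : r = r + e := by exact_mod_cast h1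
      have : e = 0 := by omega
      simp [this]
  have p1 : (q.map (Ideal.Quotient.mk J)).IsPrime :=
    Ideal.map_isPrime_of_surjective Ideal.Quotient.mk_surjective (by rw [Ideal.mk_ker]; exact h7)
  have p2 : ((IsLocalRing.maximalIdeal S).map (Ideal.Quotient.mk J)).IsPrime :=
    Ideal.map_isPrime_of_surjective Ideal.Quotient.mk_surjective (by rw [Ideal.mk_ker]; exact h7.trans h8)
  rw [Ideal.height_eq_zero_iff] at h4
  have h9 : (IsLocalRing.maximalIdeal S).map (Ideal.Quotient.mk J) ≤ q.map (Ideal.Quotient.mk J) :=
    h4.2 ⟨p1, bot_le⟩ (Ideal.map_mono h8)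
  apply le_antisymm h8
  rw [Ideal.map_le_iff_le_comap, Ideal.comap_map_of_surjective _ Ideal.Quotient.mk_surjective, ← RingHom.ker_eq_comap_bot,
    Ideal.mk_ker, sup_of_le_left h7] at h9
  exact h9

/-- A flat morphism between irreducible schemes of the same dimension, locally of finite type over a field: a point
specialising to a closed point in the same fibre equals it. -/
theorem eq_of_specializes (k : Type u) [Field k] {X Y : Scheme.{u}} [X.Over (Spec (CommRingCat.of k))]
    [Y.Over (Spec (CommRingCat.of k))] [LocallyOfFiniteType (X ↘ (Spec (CommRingCat.of k)))]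
    [LocallyOfFiniteType (Y ↘ (Spec (CommRingCat.of k)))] [IrreducibleSpace X] [IrreducibleSpace Y] (f : X ⟶ Y)
    [Flat f] (r : ℕ) (hX : topologicalKrullDim X = r) (hY : topologicalKrullDim Y = r) (a z : X)
    (ha : IsClosed ({a} : Set X)) (hfa : IsClosed ({f a} : Set Y)) (hz : z ⤳ a) (h : f z = f a) : z = a := by
  have nX : IsLocallyNoetherian X := LocallyOfFiniteType.isLocallyNoetherian (X ↘ (Spec (CommRingCat.of k)))
  have nY : IsLocallyNoetherian Y := LocallyOfFiniteType.isLocallyNoetherian (Y ↘ (Spec (CommRingCat.of k)))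
  -- the prime corresponding to `z`
  obtain ⟨q, rfl⟩ : z ∈ Set.range (X.fromSpecStalk a) := by
    rw [Scheme.range_fromSpecStalk]
    exact hz
  have h5 : Spec.map (f.stalkMap a) q = IsLocalRing.closedPoint (Y.presheaf.stalk (f a)) := by
    apply (Y.fromSpecStalk (f a)).isEmbedding.injective
    refine Eq.trans ?_ (h.trans Scheme.fromSpecStalk_closedPoint.symm)
    have h6 := congr($(Scheme.SpecMap_stalkMap_fromSpecStalk f (x := a)) q)
    exact h6
  let : Algebra (Y.presheaf.stalk (f a)) (X.presheaf.stalk a) := (f.stalkMap a).hom.toAlgebra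
  have hflat : Module.Flat (Y.presheaf.stalk (f a)) (X.presheaf.stalk a) := Flat.stalkMap f a
  have hloc : IsLocalHom (algebraMap (Y.presheaf.stalk (f a)) (X.presheaf.stalk a)) :=
    inferInstanceAs (IsLocalHom (f.stalkMap a).hom)
  have h9 : q.asIdeal = IsLocalRing.maximalIdeal (X.presheaf.stalk a) := by
    have hqp := q.2
    apply eq_maximalIdeal (R := Y.presheaf.stalk (f a)) (S := X.presheaf.stalk a) r
    · rw [← hY]; exact Fga.DimCut.ringKrullDim_stalk_eq k Y (f a) hfa
    · rw [← hX]; exact Fga.DimCut.ringKrullDim_stalk_eq k X a ha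
    · exact congrArg PrimeSpectrum.asIdeal h5
  have h10 : q = IsLocalRing.closedPoint (X.presheaf.stalk a) := PrimeSpectrum.ext h9
  rw [h10, Scheme.fromSpecStalk_closedPoint]

open MonoidalCategory CartesianMonoidalCategory MonObj K518.Phi K518.Points

variable {K : Type u} [Field K] [IsAlgClosed K] {A B : Over (Spec (CommRingCat.of K))} [GrpObj A] [GrpObj B]
  [IsProper A.hom] [GeometricallyIntegral A.hom] [IsProper B.hom] [GeometricallyIntegral B.hom]

theorem finite_ker (f : A ⟶ B) [IsMonHom f] (r : ℕ) (hA : topologicalKrullDim A.left = r)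
    (hB : topologicalKrullDim B.left = r) (hf : Surjective f.left) : {x : Pt A | x ≫ f = 1}.Finite := by
  have iA : IsIntegral A.left := K518.Basic.isIntegral_left A
  have iB : IsIntegral B.left := K518.Basic.isIntegral_left B
  have hprop : IsProper f.left := K518.Basic.isProper_left f
  have hflat : Flat f.left := Groth.Agent.Grpsch.MulFlat.flat_of_isAlgClosed f
  have nA : IsLocallyNoetherian A.left := LocallyOfFiniteType.isLocallyNoetherian A.hom
  have cA : CompactSpace A.left := QuasiCompact.compactSpace_of_compactSpace A.hom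
  have nA' : IsNoetherian A.left := {}
  let _ : A.left.Over (Spec (CommRingCat.of K)) := ⟨A.hom⟩
  let _ : B.left.Over (Spec (CommRingCat.of K)) := ⟨B.hom⟩
  have lA : LocallyOfFiniteType (A.left ↘ (Spec (CommRingCat.of K))) := inferInstanceAs (LocallyOfFiniteType A.hom)
  have lB : LocallyOfFiniteType (B.left ↘ (Spec (CommRingCat.of K))) := inferInstanceAs (LocallyOfFiniteType B.hom)
  let Z : Set A.left := f.left ⁻¹' {pt (1 : Pt B)}
  have hZ : IsClosed Z := (isClosed_pt (1 : Pt B)).preimage f.left.continuous
  have hZs : QuasiSober Z := hZ.isClosedEmbedding_subtypeVal.quasiSober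
  have hfin : (irreducibleComponents Z).Finite := NoetherianSpace.finite_irreducibleComponents
  refine Set.Finite.of_injOn (f := fun x : Pt A => {z : Z | z.1 = pt x}) ?_ ?_ hfin
  · intro x hx
    have hxZ : pt x ∈ Z := by
      change f.left (pt x) = pt 1
      rw [← pt_comp, hx]
    have hs : {z : Z | z.1 = pt x} = {⟨pt x, hxZ⟩} := by
      ext z
      simp [Subtype.ext_iff]
    change {z : Z | z.1 = pt x} ∈ irreducibleComponents Z
    rw [hs]
    refine ⟨isIrreducible_singleton, fun s hs' hle => ?_⟩
    obtain ⟨w, hw⟩ := QuasiSober.sober hs'.closure isClosed_closure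
    have h1 : w ⤳ (⟨pt x, hxZ⟩ : Z) := by
      rw [specializes_iff_mem_closure, hw.def]
      exact subset_closure (hle rfl)
    have h2 : w.1 ⤳ pt x := h1.map continuous_subtype_val
    have h3 : w.1 = pt x := by
      refine eq_of_specializes K f.left r hA hB (pt x) w.1 (isClosed_pt x) ?_ h2 ?_
      · rw [← pt_comp]; exact isClosed_pt _
      · rw [← pt_comp, hx]; exact w.2
    intro t ht
    have h4 : t ∈ closure ({w} : Set Z) := by rw [hw.def]; exact subset_closure ht
    have h5 : IsClosed ({w} : Set Z) := by
      have h6 : ({w} : Set Z) = Subtype.val ⁻¹' ({pt x} : Set A.left) := by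
        ext z
        simp [Subtype.ext_iff, h3]
      rw [h6]
      exact (isClosed_pt x).preimage continuous_subtype_val
    rw [h5.closure_eq] at h4
    have h7 : t = w := h4
    rw [h7]
    exact Subtype.ext h3
  · intro x hx y hy hxy
    have hxZ : pt x ∈ Z := by
      change f.left (pt x) = pt 1
      rw [← pt_comp, hx]
    have hxy' : {z : Z | z.1 = pt x} = {z : Z | z.1 = pt y} := hxy
    have h1 : (⟨pt x, hxZ⟩ : Z) ∈ {z : Z | z.1 = pt y} := by
      rw [← hxy']
      exact (rfl : pt x = pt x)
    exact pt_ext h1

/-- A surjective homomorphism between abelian varieties of the same dimension is finite and flat. -/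
theorem isFinite_of_surjective (f : A ⟶ B) [IsMonHom f] (r : ℕ) (hA : topologicalKrullDim A.left = r)
    (hB : topologicalKrullDim B.left = r) (hf : Surjective f.left) : IsFinite f.left := by
  have hprop : IsProper f.left := K518.Basic.isProper_left f
  exact Groth.Agent.Sga3.H794.ChevKer.isFinite_of_finite_ker f (finite_ker f r hA hB hf)

end K518.FinSurj
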