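import Groth.Agent.AbVar.K518.IntMul
import Groth.Agent.Fga.HodgeMult
import Groth.Agent.CycB.ImageInt

/-!
# Intersection numbers of classes pulled back along a morphism with small image
-/

set_option autoImplicit false
universe u

open CategoryTheory CategoryTheory.Limits AlgebraicGeometry Opposite TopologicalSpace
open Groth.Agent Groth.Agent.Grpsch.PicGrp Groth.Agent.Pic13.H970.IntForm

namespace K518.IntZero

/-- If `dim g(W) < r` then `(g^*c_1 ⋯ g^*c_r) = 0`. -/
theorem I_pull_eq_zero (k : Type u) [Field k] {X W : Scheme.{u}}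
    [X.Over (Spec (CommRingCat.of k))] [W.Over (Spec (CommRingCat.of k))]
    [IsProper (X ↘ (Spec (CommRingCat.of k)))] [IsProper (W ↘ (Spec (CommRingCat.of k)))] [IsIntegral W]
    (g : W ⟶ X) (hg : g ≫ (X ↘ (Spec (CommRingCat.of k))) = W ↘ (Spec (CommRingCat.of k)))
    (d : ℕ) (hX : topologicalKrullDim X ≤ d) (hW : topologicalKrullDim W ≤ d) {A : W.Modules} (hA : CohB1.IsAmple A)
    {r : ℕ} (hr : topologicalKrullDim W ≤ r) (him : topologicalKrullDim (Set.range g) < r) (c : Fin r → Pic X) :
    I k W d (Coh.structureModule W) (fun i => pull g (c i)) = 0 := by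
  obtain ⟨M, hM, rfl⟩ := exists_rep X c
  have hprop : IsProper (g ≫ (X ↘ (Spec (CommRingCat.of k)))) := by rw [hg]; infer_instance
  have hgp : IsProper g := IsProper.of_comp g (X ↘ (Spec (CommRingCat.of k)))
  have hYi : IsIntegral g.image := CycB.ImageInt.isIntegral_image g
  let _ : g.image.Over (Spec (CommRingCat.of k)) := ⟨g.imageι ≫ (X ↘ (Spec (CommRingCat.of k)))⟩
  have hYp : IsProper (g.image ↘ (Spec (CommRingCat.of k))) :=
    inferInstanceAs (IsProper (g.imageι ≫ (X ↘ (Spec (CommRingCat.of k)))))
  have hrange : Set.range g.imageι = Set.range g := by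
    rw [Scheme.Hom.imageι, Scheme.IdealSheafData.range_subschemeι, Scheme.Hom.support_ker,
      g.isClosedMap.isClosed_range.closure_eq]
  have hdY : topologicalKrullDim g.image < r := by
    refine lt_of_le_of_lt ?_ him
    have h1 : Topology.IsInducing (Set.codRestrict g.imageι (Set.range g) (fun y => by rw [← hrange]; exact ⟨y, rfl⟩)) :=
      g.imageι.isEmbedding.isInducing.codRestrict _
    exact h1.topologicalKrullDim_le
  have hdY' : topologicalKrullDim g.image ≤ d := (g.imageι.isEmbedding.isInducing.topologicalKrullDim_le).trans hX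
  have hgen : g.imageι (genericPoint g.image) = g (genericPoint W) := by
    rw [← CycB.ImageInt.toImage_genericPoint g, ← Scheme.Hom.comp_apply, Scheme.Hom.toImage_imageι]
  obtain ⟨m, -, hm⟩ := Fga.HodgeMult.push_formula k X W g.image g hg g.imageι rfl hgen d d r hX hW hr hdY.le M hM hA
  have hM' : ∀ i, PicF.IsInvertible ((Scheme.Modules.pullback g).obj (M i)) := fun i =>
    Fdesc.LocGen.isInvertible_pullback g (hM i)
  have hM'' : ∀ i, PicF.IsInvertible ((Scheme.Modules.pullback g.imageι).obj (M i)) := fun i =>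
    Fdesc.LocGen.isInvertible_pullback g.imageι (hM i)
  have e1 : (fun i => pull g (mk (M i) (hM i))) = fun i => mk ((Scheme.Modules.pullback g).obj (M i)) (hM' i) := rfl
  rw [e1, ← intNum_eq, hm, intNum_eq k g.image d _ _ hM'',
    I_eq_zero k g.image d hdY' _ (CurvesC.UnitCoh.isCoh_unit g.image) _ (by rw [K518.IntMul.dim_support_unit]; exact hdY),
    mul_zero]

end K518.IntZero
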