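import Groth.Agent.AbVar.K518.AVNum
import Groth.Agent.AbVar.K518.IntZero
import Groth.Agent.AbVar.K518.FinSurj
import Groth.Agent.Sga3C.DimTop
import Groth.Agent.Fga.DimLt
import Groth.Agent.Grpsch.MulFin
import Mathlib.RingTheory.MvPolynomial.Homogeneous

/-!
# The degree of a homomorphism is a homogeneous polynomial of degree `2r`

Over an algebraically closed field, for homomorphisms `f_i : A ⟶ B` of abelian varieties of the same dimension `r`, the
degree of `∏ f_i ^ a_i` (zero if it is not finite) is a homogeneous polynomial of degree `2r` in the `a_i`.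
-/

set_option autoImplicit false
universe u

open CategoryTheory Limits MonoidalCategory CartesianMonoidalCategory AlgebraicGeometry
open scoped MonObj
open Groth.Agent.Grpsch.PicGrp Groth.Agent.Grpsch.Cube
open K518.Phi K518.AVNum

namespace K518.DegPoly

theorem dim_lt_of_ne {T : Type*} [TopologicalSpace T] [IrreducibleSpace T] {D : Set T} (hD : IsClosed D)
    (hne : D ≠ Set.univ) (hn : D.Nonempty) {r : ℕ} (hr : topologicalKrullDim T = r) : topologicalKrullDim D < r := by
  have h0 : ((0 : ℕ) : WithBot ℕ∞) ≤ topologicalKrullDim D := by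
    have : Nonempty D := hn.to_subtype
    have hne : Nonempty (TopologicalSpace.IrreducibleCloseds D) :=
      ⟨⟨closure {this.some}, isIrreducible_singleton.closure, isClosed_closure⟩⟩
    exact_mod_cast Order.krullDim_nonneg
  have h1 := Groth.Agent.Fga.DimLt.exists_ltSeries_succ hD hne h0
  rw [hr] at h1
  have h2 : 1 ≤ r := by exact_mod_cast h1
  by_contra h3
  rw [not_lt] at h3
  have h4 := Groth.Agent.Fga.DimLt.exists_ltSeries_succ hD hne h3
  rw [hr] at h4
  have h5 : r + 1 ≤ r := by exact_mod_cast h4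
  omega

/-- A finite morphism between integral schemes of the same dimension is surjective. -/
theorem surjective_of_isFinite {X Y : Scheme.{u}} [IsIntegral X] [IsIntegral Y] (f : X ⟶ Y) [IsFinite f]
    (r : ℕ) (hX : topologicalKrullDim X = r) (hY : topologicalKrullDim Y = r) : Surjective f := by
  constructor
  rw [← Set.range_eq_univ]
  by_contra hne
  have hcl : IsClosed (Set.range f) := f.isClosedMap.isClosed_range
  have h1 := dim_lt_of_ne hcl hne (Set.range_nonempty f) hY
  have h2 : topologicalKrullDim X = topologicalKrullDim (Set.range f) := by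
    have : T0Space (Set.range f) := inferInstance
    have : QuasiSober (Set.range f) := hcl.isClosedEmbedding_subtypeVal.quasiSober
    refine Groth.Agent.Sga3C.DimTop.topologicalKrullDim_eq_of_closedMap (Set.rangeFactorization f)
      (f.continuous.subtype_mk _) ?_ Set.rangeFactorization_surjective ?_
    · exact f.isClosedMap.subtype_mk _
    · intro x x' h he
      exact Groth.Agent.Sga3C.DimTop.eq_of_specializes_of_isIntegralHom f x x' h (congrArg Subtype.val he)
  rw [← h2, hX] at h1
  exact lt_irrefl _ h1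

variable {K : Type u} [Field K] {A B : Over (Spec (CommRingCat.of K))} [GrpObj A] [GrpObj B]
  [IsProper A.hom] [GeometricallyIntegral A.hom] [IsProper B.hom] [GeometricallyIntegral B.hom]
  {r : ℕ} (hA : topologicalKrullDim A.left = r) (hB : topologicalKrullDim B.left = r)

/-- Degree formula. -/
theorem J_pl_hom (f : A ⟶ B) [IsFinite f.left] [Flat f.left] (n : ℕ) (hn : ∀ b : B.left, f.left.finrank b = n)
    (c : Fin r → Additive (Pic B.left)) :
    JA hA (fun i => Additive.ofMul (pl f (c i).toMul)) = n * JA hB c := by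
  have : IsIntegral B.left := K518.Basic.isIntegral_left B
  rw [K518.IntMul.J_apply, K518.IntMul.J_apply]
  have h := K518.IntDeg.I_pull K f.left (by exact Over.w f) r hB.le hA.le hB.le (fun i => (c i).toMul⁻¹)
  rw [hn] at h
  rw [← h]
  congr 1
  funext i
  exact (map_inv (pl f) (c i).toMul).symm

section

variable [IsAlgClosed K]

include hA hB in
theorem surj_flat (f : A ⟶ B) [IsMonHom f] [IsFinite f.left] :
    Surjective f.left ∧ Flat f.left ∧ LocallyOfFinitePresentation f.left := by
  have iA : IsIntegral A.left := K518.Basic.isIntegral_left A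
  have iB : IsIntegral B.left := K518.Basic.isIntegral_left B
  have hs : Surjective f.left := surjective_of_isFinite f.left r hA hB
  have hf : Flat f.left := Groth.Agent.Grpsch.MulFlat.flat_of_isAlgClosed f
  refine ⟨hs, hf, ?_⟩
  have : IsLocallyNoetherian B.left := LocallyOfFiniteType.isLocallyNoetherian (Y := Spec (CommRingCat.of K)) B.hom
  infer_instance

include hB in
theorem J_pl_of_not_isFinite (f : A ⟶ B) [IsMonHom f] (hf : ¬ IsFinite f.left) (c : Fin r → Additive (Pic B.left)) :
    JA hA (fun i => Additive.ofMul (pl f (c i).toMul)) = 0 := by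
  have iA : IsIntegral A.left := K518.Basic.isIntegral_left A
  have iB : IsIntegral B.left := K518.Basic.isIntegral_left B
  have hs : Set.range f.left ≠ Set.univ := by
    intro h
    exact hf (K518.FinSurj.isFinite_of_surjective f r hA hB ⟨Set.range_eq_univ.mp h⟩)
  have hp : IsProper f.left := K518.Basic.isProper_left f
  have hcl : IsClosed (Set.range f.left) := f.left.isClosedMap.isClosed_range
  have h1 := dim_lt_of_ne hcl hs (Set.range_nonempty f.left) hB
  obtain ⟨L, hL, -⟩ := Groth.Agent.Grpsch.MulFin.exists_symm_ample A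
  rw [K518.IntMul.J_apply]
  have h := K518.IntZero.I_pull_eq_zero K f.left (by exact Over.w f) r hB.le hA.le hL hA.le h1 (fun i => (c i).toMul⁻¹)
  rw [← h]
  congr 1
  funext i
  exact (map_inv (pl f) (c i).toMul).symm

/-- `2 g^*ℓ = D_ℓ(g, g)` up to a translation-invariant class. -/
theorem two_class (ℓ : Pic B.left) (g : A ⟶ B) [IsMonHom g] : pl g ℓ ^ 2 * (D ℓ g g)⁻¹ ∈ Inv A := by
  have : IsCommMonObj B := isCommMonObj_of_isProper_of_geometricallyIntegral B
  rw [← phi_eq_iff]
  intro x
  rw [phi_pow_left, phi_pl, phi_D, pow_two]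

/-- `J (Σ_p c_p d_p, …)` -/
theorem J_sum {V : Type*} [AddCommGroup V] {T : Type*} [Fintype T] [DecidableEq T] {r : ℕ}
    (J : MultilinearMap ℤ (fun _ : Fin r => V) ℤ) (c : T → ℤ) (d : T → V) :
    J (fun _ => ∑ p, c p • d p) = ∑ σ : Fin r → T, (∏ i, c (σ i)) * J (fun i => d (σ i)) := by
  rw [J.map_sum (fun (_ : Fin r) p => c p • d p)]
  refine Finset.sum_congr rfl fun σ _ => ?_
  rw [J.map_smul_univ (fun i => c (σ i)) (fun i => d (σ i)), smul_eq_mul]

variable [IsCommMonObj B]

theorem isMonHom_prod {m : ℕ} (f : Fin m → (A ⟶ B)) [∀ i, IsMonHom (f i)] (a : Fin m → ℤ) :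
    IsMonHom (∏ i, f i ^ a i) := by
  have : IsCommMonObj A := isCommMonObj_of_isProper_of_geometricallyIntegral A
  have key : ∀ s : Finset (Fin m), IsMonHom (∏ i ∈ s, f i ^ a i) := by
    classical
    intro s
    induction s using Finset.induction with
    | empty =>
      rw [Finset.prod_empty]
      exact (0 : EndAV.Hom A B).isMonHom_toHom
    | insert i s hi ih =>
      rw [Finset.prod_insert hi]
      have h1 : IsMonHom (f i ^ a i) := by
        have h := (a i • EndAV.Hom.of (f i)).isMonHom_toHom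
        rwa [EndAV.Hom.toHom_zsmul] at h
      exact isMonHom_mul _ _
  exact key Finset.univ

theorem D_prod (ℓ : Pic B.left) {m : ℕ} (f : Fin m → (A ⟶ B)) (a : Fin m → ℤ) :
    Additive.ofMul (D ℓ (∏ i, f i ^ a i) (∏ i, f i ^ a i)) =
      ∑ p : Fin m × Fin m, (a p.1 * a p.2) • Additive.ofMul (D ℓ (f p.1) (f p.2)) := by
  have h1 : D ℓ (∏ i, f i ^ a i) (∏ i, f i ^ a i) = ∏ i, ∏ j, (D ℓ (f i) (f j) ^ a j) ^ a i := by
    have e1 : D ℓ (∏ i, f i ^ a i) (∏ i, f i ^ a i) = ∏ i, D ℓ (f i) (∏ j, f j ^ a j) ^ a i := by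
      change Dhom' ℓ (∏ i, f i ^ a i) (∏ i, f i ^ a i) = _
      rw [map_prod]
      refine Finset.prod_congr rfl fun i _ => ?_
      rw [map_zpow]
      rfl
    rw [e1]
    refine Finset.prod_congr rfl fun i _ => ?_
    have e2 : D ℓ (f i) (∏ j, f j ^ a j) = ∏ j, D ℓ (f i) (f j) ^ a j := by
      change Dhom ℓ (f i) (∏ i, f i ^ a i) = _
      rw [map_prod]
      refine Finset.prod_congr rfl fun i _ => ?_
      rw [map_zpow]
      rfl
    rw [e2, Finset.prod_zpow]
  rw [h1, ofMul_prod, Fintype.sum_prod_type]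
  refine Finset.sum_congr rfl fun i _ => ?_
  rw [ofMul_prod]
  refine Finset.sum_congr rfl fun j _ => ?_
  rw [ofMul_zpow, ofMul_zpow, smul_smul]

/-- The value of the intersection form. -/
theorem J_value (ℓ : Pic B.left) {m : ℕ} (f : Fin m → (A ⟶ B)) [∀ i, IsMonHom (f i)] (a : Fin m → ℤ) :
    JA hA (fun _ => ∑ p : Fin m × Fin m, (a p.1 * a p.2) • Additive.ofMul (D ℓ (f p.1) (f p.2))) =
      JA hA (fun i => Additive.ofMul (pl (∏ i, f i ^ a i) ((fun _ : Fin r => (2 : ℤ) • Additive.ofMul ℓ) i).toMul)) := by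
  have hg := isMonHom_prod f a
  rw [← K518.MulPoly.map_add_null (JA hA) {t | t.toMul ∈ Inv A} (fun t ht c i =>
    J_eq_zero_of_inv hA _ i (by rw [Function.update_self]; exact ht)) _
    (fun _ => Additive.ofMul (pl (∏ i, f i ^ a i) ℓ ^ 2 * (D ℓ (∏ i, f i ^ a i) (∏ i, f i ^ a i))⁻¹))
    (fun _ => two_class ℓ (∏ i, f i ^ a i))]
  congr 1
  funext i
  rw [ofMul_mul, ofMul_inv, D_prod, toMul_zsmul, toMul_ofMul, map_zpow]
  simp only [ofMul_zpow, ofMul_pow]
  module

include hA hB in
/-- **The degree is a homogeneous polynomial of degree `2r`.** -/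
theorem exists_poly {m : ℕ} (f : Fin m → (A ⟶ B)) [∀ i, IsMonHom (f i)] :
    ∃ P : MvPolynomial (Fin m) ℚ, P.IsHomogeneous (2 * r) ∧
      ∀ a : Fin m → ℤ, (IsFinite (∏ i, f i ^ a i).left →
          ∀ y : B.left, (Scheme.Hom.finrank (∏ i, f i ^ a i).left y : ℚ) = MvPolynomial.eval (fun i => (a i : ℚ)) P) ∧
        (¬ IsFinite (∏ i, f i ^ a i).left → MvPolynomial.eval (fun i => (a i : ℚ)) P = 0) := by
  have iB : IsIntegral B.left := K518.Basic.isIntegral_left B
  obtain ⟨L, hL, -⟩ := Groth.Agent.Grpsch.MulFin.exists_symm_ample B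
  set ℓ : Pic B.left := mk L hL.1 with hℓ
  set C₀ : ℤ := JA hB (fun _ => (2 : ℤ) • Additive.ofMul ℓ) with hC₀
  have hpos : 0 < C₀ := by
    rw [hC₀, (JA hB).map_smul_univ (fun _ : Fin r => (2 : ℤ)) (fun _ => Additive.ofMul ℓ), smul_eq_mul]
    refine mul_pos (Finset.prod_pos fun i _ => by norm_num) ?_
    exact K518.IntMul.J_pos K B.left hB.le hB (fun _ => L) (fun _ => hL) (fun _ => hL.1)
  have hC0 : (C₀ : ℚ) ≠ 0 := by exact_mod_cast hpos.ne'
  let P : MvPolynomial (Fin m) ℚ := ∑ σ : Fin r → Fin m × Fin m, MvPolynomial.C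
        (((JA hA (fun i => Additive.ofMul (D ℓ (f (σ i).1) (f (σ i).2))) : ℤ) : ℚ) / C₀) *
        ∏ i, (MvPolynomial.X (σ i).1 * MvPolynomial.X (σ i).2)
  have hev : ∀ a : Fin m → ℤ, MvPolynomial.eval (fun i => (a i : ℚ)) P * C₀ =
      ((JA hA (fun i => Additive.ofMul
        (pl (∏ i, f i ^ a i) ((fun _ : Fin r => (2 : ℤ) • Additive.ofMul ℓ) i).toMul)) : ℤ) : ℚ) := by
    intro a
    rw [← J_value hA ℓ f a, J_sum (JA hA) (fun p : Fin m × Fin m => a p.1 * a p.2)
      (fun p : Fin m × Fin m => Additive.ofMul (D ℓ (f p.1) (f p.2)))]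
    rw [map_sum, Finset.sum_mul]
    push_cast
    refine Finset.sum_congr rfl fun σ _ => ?_
    rw [map_mul, map_prod, MvPolynomial.eval_C]
    simp only [map_mul, MvPolynomial.eval_X]
    field_simp
  refine ⟨P, ?_, fun a => ⟨fun hfin y => ?_, fun hfin => ?_⟩⟩
  rotate_left
  · have hg := isMonHom_prod f a
    obtain ⟨hs, hfl, hfp⟩ := surj_flat hA hB (∏ i, f i ^ a i)
    have hn : ∀ b : B.left, (∏ i, f i ^ a i).left.finrank b = (∏ i, f i ^ a i).left.finrank y := fun b =>
      (Scheme.Hom.isLocallyConstant_finrank (∏ i, f i ^ a i).left).apply_eq_of_preconnectedSpace _ _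
    have h1 := hev a
    rw [J_pl_hom hA hB (∏ i, f i ^ a i) _ hn] at h1
    push_cast at h1
    exact (mul_right_cancel₀ hC0 h1).symm
  · have hg := isMonHom_prod f a
    have h1 := hev a
    rw [J_pl_of_not_isFinite hA hB (∏ i, f i ^ a i) hfin, Int.cast_zero] at h1
    exact (mul_eq_zero.mp h1).resolve_right hC0
  · refine MvPolynomial.IsHomogeneous.sum _ _ _ fun σ _ => ?_
    have h2 : (∏ i : Fin r, (MvPolynomial.X (σ i).1 * MvPolynomial.X (σ i).2 : MvPolynomial (Fin m) ℚ)).IsHomogeneous
        (∑ _i : Fin r, (1 + 1)) :=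
      MvPolynomial.IsHomogeneous.prod _ _ _ fun i _ =>
        (MvPolynomial.isHomogeneous_X _ _).mul (MvPolynomial.isHomogeneous_X _ _)
    have h3 := (MvPolynomial.isHomogeneous_C (Fin m)
      (((JA hA (fun i => Additive.ofMul (D ℓ (f (σ i).1) (f (σ i).2))) : ℤ) : ℚ) / C₀)).mul h2
    have h4 : 0 + ∑ _i : Fin r, (1 + 1) = 2 * r := by simp [mul_comm]
    rwa [h4] at h3

end

end K518.DegPoly
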