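import Groth.Agent.AbVar.K517.Isog
import Groth.Agent.AbVar.K520.Prod
import Groth.Agent.FBase.K106.Dim
import Groth.Agent.AbVar.K518.DegPoly

/-!
# Isogenies to products

* `exists_prod`: products of finite families of abelian varieties, with dimension;
* `exists_dec`: an isogeny `(π_i)_i : A → ∏ N_i` (finite kernel, `dim A = ∑ dim N_i`) gives homomorphisms
  `q_i : N_i → A` with `q_i ≫ π_i = m`, `q_i ≫ π_j = 0` and `∑ π_i ≫ q_i = m`.
-/

set_option autoImplicit false
universe u

open CategoryTheory MonoidalCategory CartesianMonoidalCategory MonObj GrpObj AlgebraicGeometry Limits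

namespace K518.ProdIsog

section field

variable {k : Type u} [Field k]

theorem dim_tensor (A B : Over (Spec (CommRingCat.of k))) [LocallyOfFiniteType A.hom] [LocallyOfFiniteType B.hom] :
    topologicalKrullDim (A ⊗ B).left = topologicalKrullDim A.left + topologicalKrullDim B.left :=
  K106.Dim.topologicalKrullDim_pullback_eq_add A.hom B.hom

theorem dim_unit : topologicalKrullDim (𝟙_ (Over (Spec (CommRingCat.of k)))).left = 0 := by
  change topologicalKrullDim (PrimeSpectrum k) = 0
  rw [PrimeSpectrum.topologicalKrullDim_eq_ringKrullDim]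
  exact ringKrullDim_eq_zero_of_field k

theorem exists_prod (n : ℕ) : ∀ (N : Fin n → Over (Spec (CommRingCat.of k))) [∀ i, GrpObj (N i)]
    [∀ i, IsCommMonObj (N i)] [∀ i, IsProper (N i).hom] [∀ i, GeometricallyIntegral (N i).hom] (d : Fin n → ℕ),
    (∀ i, topologicalKrullDim (N i).left = d i) →
    ∃ (P : Over (Spec (CommRingCat.of k))) (_ : GrpObj P) (_ : IsCommMonObj P) (_ : IsProper P.hom)
      (_ : GeometricallyIntegral P.hom) (π : ∀ i, P ⟶ N i), topologicalKrullDim P.left = ((∑ i, d i : ℕ) : WithBot ℕ∞) ∧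
      (∀ i, IsMonHom (π i)) ∧
      (∀ (T : Over (Spec (CommRingCat.of k))) (a b : T ⟶ P), (∀ i, a ≫ π i = b ≫ π i) → a = b) ∧
      (∀ (T : Over (Spec (CommRingCat.of k))) (v : ∀ i, T ⟶ N i), ∃ w : T ⟶ P, ∀ i, w ≫ π i = v i) := by
  induction n with
  | zero =>
    intro N _ _ _ _ d hd
    refine ⟨𝟙_ (Over _), inferInstance, inferInstance, inferInstanceAs (IsProper (𝟙 _)),
      K520.Prod.geometricallyIntegral_unit, fun i => i.elim0, ?_, fun i => i.elim0, ?_, ?_⟩
    · rw [dim_unit]
      simp
    · intro T a b _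
      exact toUnit_unique _ _
    · intro T v
      exact ⟨toUnit T, fun i => i.elim0⟩
  | succ n ih =>
    intro N _ _ _ _ d hd
    obtain ⟨P, hP1, hP2, hP3, hP4, π, hdim, h4, h5, h6⟩ := ih (fun i => N i.castSucc) (fun i => d i.castSucc) (fun i => hd _)
    refine ⟨P ⊗ N (Fin.last n), inferInstance, inferInstance, K520.Prod.isProper_tensor _ _,
      K520.Prod.geometricallyIntegral_tensor _ _, Fin.lastCases (snd _ _) (fun i => fst _ _ ≫ π i), ?_, ?_, ?_, ?_⟩
    · rw [dim_tensor, hdim, hd, Fin.sum_univ_castSucc]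
      push_cast
      rfl
    · intro i
      refine Fin.lastCases ?_ (fun i => ?_) i
      · dsimp only
        rw [Fin.lastCases_last]
        infer_instance
      · dsimp only
        rw [Fin.lastCases_castSucc]
        have := h4 i
        infer_instance
    · intro T a b hab
      apply CartesianMonoidalCategory.hom_ext
      · refine h5 _ _ _ fun i => ?_
        have := hab i.castSucc
        dsimp only at this
        rw [Fin.lastCases_castSucc] at this
        rw [Category.assoc, Category.assoc, this]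
      · have := hab (Fin.last n)
        dsimp only at this
        rwa [Fin.lastCases_last] at this
    · intro T v
      obtain ⟨w, hw⟩ := h6 T (fun i => v i.castSucc)
      refine ⟨lift w (v (Fin.last n)), fun i => ?_⟩
      refine Fin.lastCases ?_ (fun i => ?_) i
      · dsimp only
        rw [Fin.lastCases_last, lift_snd]
      · dsimp only
        rw [Fin.lastCases_castSucc, lift_fst_assoc, hw]

end field

variable {K : Type u} [Field K] [IsAlgClosed K]

open EndAV in
theorem exists_dec {A : Over (Spec (CommRingCat.of K))} [GrpObj A] [IsCommMonObj A] [IsProper A.hom]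
    [GeometricallyIntegral A.hom] (n : ℕ) (N : Fin n → Over (Spec (CommRingCat.of K))) [∀ i, GrpObj (N i)]
    [∀ i, IsCommMonObj (N i)] [∀ i, IsProper (N i).hom] [∀ i, GeometricallyIntegral (N i).hom] (d : Fin n → ℕ)
    (hd : ∀ i, topologicalKrullDim (N i).left = d i) (hA : topologicalKrullDim A.left = ((∑ i, d i : ℕ) : WithBot ℕ∞))
    (π : ∀ i, EndAV.Hom A (N i))
    (hker : Set.Finite {a : (𝟙_ (Over (Spec (CommRingCat.of K))) ⟶ A) | ∀ t, a ≫ (π t).toHom = 1}) :
    ∃ (m : ℕ) (q : ∀ i, EndAV.Hom (N i) A), 1 ≤ m ∧ (∀ i, q i ≫ π i = m • 𝟙 _) ∧ (∀ i j, i ≠ j → q i ≫ π j = 0) ∧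
      ∑ i, π i ≫ q i = m • 𝟙 _ := by
  classical
  obtain ⟨P, hP1, hP2, hP3, hP4, pr₀, hdim, h4, h5, h6⟩ := exists_prod n N d hd
  let pr : ∀ i, EndAV.Hom P (N i) := fun i => have := h4 i; EndAV.Hom.of (pr₀ i)
  have hlift : ∀ (T : Over (Spec (CommRingCat.of K))) [GrpObj T] [IsCommMonObj T] (v : ∀ i, EndAV.Hom T (N i)),
        ∃ w : EndAV.Hom T P, ∀ i, w ≫ pr i = v i := by
    intro T _ _ v
    obtain ⟨w, hw⟩ := h6 T (fun i => (v i).toHom)
    have hmon : IsMonHom w := by
      constructor
      · refine h5 _ _ _ fun i => ?_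
        have := h4 i
        rw [Category.assoc, hw, IsMonHom.one_hom, IsMonHom.one_hom]
      · refine h5 _ _ _ fun i => ?_
        have := h4 i
        rw [Category.assoc, Category.assoc, hw, IsMonHom.mul_hom, IsMonHom.mul_hom, ← hw i, ← tensorHom_comp_tensorHom_assoc]
    refine ⟨EndAV.Hom.of w, fun i => EndAV.Hom.ext (hw i)⟩
  choose inc hinc using fun i : Fin n => hlift (N i) (fun j => if h : i = j then eqToHom (by rw [h]) else 0)
  have hinc1 : ∀ i, inc i ≫ pr i = 𝟙 _ := fun i => by
    rw [hinc, dif_pos rfl, eqToHom_refl]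
  have hinc2 : ∀ i j, i ≠ j → inc i ≫ pr j = 0 := fun i j h => by
    rw [hinc, dif_neg h]
  have hsum : ∑ i, pr i ≫ inc i = 𝟙 _ := by
    apply EndAV.Hom.ext
    refine h5 _ _ _ fun j => ?_
    have : (∑ i, pr i ≫ inc i) ≫ pr j = 𝟙 _ ≫ pr j := by
      rw [Preadditive.sum_comp, Category.id_comp, Finset.sum_eq_single j]
      · rw [Category.assoc, hinc1, Category.comp_id]
      · intro i _ hij
        rw [Category.assoc, hinc2 i j hij, comp_zero]
      · intro h; exact absurd (Finset.mem_univ j) h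
    exact congrArg EndAV.Hom.toHom this
  obtain ⟨f, hf⟩ := hlift A π
  have hfk : {x : 𝟙_ (Over (Spec (CommRingCat.of K))) ⟶ A | x ≫ f.toHom = 1}.Finite := by
    refine hker.subset fun x hx t => ?_
    have hx' : x ≫ f.toHom = 1 := hx
    rw [← hf t, EndAV.Hom.toHom_comp, ← Category.assoc, hx']
    exact MonObj.one_comp _
  have hpr : IsProper f.toHom.left := K518.Basic.isProper_left f.toHom
  have hfin : IsFinite f.toHom.left := Groth.Agent.Sga3.H794.ChevKer.isFinite_of_finite_ker f.toHom hfk
  have iA : IsIntegral A.left := K518.Basic.isIntegral_left A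
  have iP : IsIntegral P.left := K518.Basic.isIntegral_left P
  have hsurj : Surjective f.toHom.left := K518.DegPoly.surjective_of_isFinite f.toHom.left _ hA hdim
  obtain ⟨m, v, hm, hv, hv1, hv2⟩ := K517.Isog.exists_rev_of_surjective f.toHom (by rw [hA, hdim])
  have hv1' : f ≫ EndAV.Hom.of v = m • 𝟙 _ := by
    apply EndAV.Hom.ext
    rw [EndAV.Hom.toHom_nsmul]
    exact hv1
  have hv2' : EndAV.Hom.of v ≫ f = m • 𝟙 _ := by
    apply EndAV.Hom.ext
    rw [EndAV.Hom.toHom_nsmul]
    exact hv2
  refine ⟨m, fun i => inc i ≫ EndAV.Hom.of v, hm, fun i => ?_, fun i j hij => ?_, ?_⟩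
  · rw [← hf i, Category.assoc, ← Category.assoc (EndAV.Hom.of v), hv2', Preadditive.nsmul_comp, Category.id_comp,
      Preadditive.comp_nsmul, hinc1]
  · rw [← hf j, Category.assoc, ← Category.assoc (EndAV.Hom.of v), hv2', Preadditive.nsmul_comp, Category.id_comp,
      Preadditive.comp_nsmul, hinc2 i j hij, smul_zero]
  · have e : ∀ i, π i ≫ inc i ≫ EndAV.Hom.of v = f ≫ (pr i ≫ inc i) ≫ EndAV.Hom.of v := fun i => by
      rw [← hf i]
      simp only [Category.assoc]
    rw [Finset.sum_congr rfl fun i _ => e i, ← Preadditive.comp_sum, ← Preadditive.sum_comp, hsum, Category.id_comp, hv1']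

end K518.ProdIsog
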