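import Groth.Agent.Grpsch.PicGrp
import Groth.Agent.Ega1.AmpFam
import Groth.Agent.Fdesc.LocGenAmple
import Mathlib.AlgebraicGeometry.Properties

/-!
# Classes of effective and of positive divisors

* `IsEff c`: `c` is the class of an invertible module with a section generating it at some point.
* `IsPos c`: moreover the section does not generate everywhere.
* on an integral scheme: `isPos_iff` (nonzero and not an isomorphism); products, powers, pull-backs; existence of sections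
  of a power of an ample module separating two points.
-/

set_option autoImplicit false
universe u

open CategoryTheory CategoryTheory.Limits AlgebraicGeometry Opposite TopologicalSpace
open Groth.Agent.Grpsch.PicGrp Groth.Agent.Fdesc.LocGen

namespace K518.Sec

variable {X Y : Scheme.{u}}

theorem isIso_iff_genLocus {M : X.Modules} (s : Coh.structureModule X ⟶ M) :
    IsIso s ↔ CohB1.genLocus M s = ⊤ := by
  rw [isIso_iff_isGen, ← le_genLocus_iff, top_le_iff]

theorem genLocus_eq_bot_of_eq_zero {M : X.Modules} : CohB1.genLocus M (0 : Coh.structureModule X ⟶ M) = ⊥ := by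
  rw [eq_bot_iff]
  intro x hx
  obtain ⟨V, hxV, hV⟩ := (mem_genLocus_iff _ _).mp hx
  have h0 : sec (0 : Coh.structureModule X ⟶ M) V = 0 := rfl
  rw [h0] at hV
  have : (1 : Γ(X, V)) = 0 := hV.ext (by rw [smul_zero, smul_zero])
  have : Nonempty V := ⟨⟨x, hxV⟩⟩
  exact absurd ‹(1 : Γ(X, V)) = 0› one_ne_zero

theorem eq_zero_of_genLocus_eq_bot [IsReduced X] {M : X.Modules} (hM : PicF.IsInvertible M)
    (s : Coh.structureModule X ⟶ M) (h : CohB1.genLocus M s = ⊥) : s = 0 := by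
  rw [isInvertible_iff] at hM
  choose U e hxU he using hM
  apply hom_ext_sec
  refine res_ext M (V := ⊤) U (fun x => le_top) (fun x _ => Opens.mem_iSup.mpr ⟨x, hxU x⟩) fun x => ?_
  obtain ⟨a, ha⟩ := (he x).exists_eq (sec s (U x))
  have h1 := genLocus_inf_eq s (he x) ha
  rw [h, bot_inf_eq] at h1
  rw [(basicOpen_eq_bot_iff a).mp h1.symm, zero_smul] at ha
  rw [res_sec, res_sec, ha]
  rfl

theorem genLocus_eq_bot_iff [IsReduced X] {M : X.Modules} (hM : PicF.IsInvertible M)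
    (s : Coh.structureModule X ⟶ M) : CohB1.genLocus M s = ⊥ ↔ s = 0 :=
  ⟨eq_zero_of_genLocus_eq_bot hM s, fun h => by rw [h, genLocus_eq_bot_of_eq_zero]⟩

/-- The class of an effective divisor. -/
def IsEff (c : Pic X) : Prop := ∃ (M : X.Modules) (hM : PicF.IsInvertible M) (s : Coh.structureModule X ⟶ M),
  mk M hM = c ∧ CohB1.genLocus M s ≠ ⊥

/-- The class of a nonzero effective divisor. -/
def IsPos (c : Pic X) : Prop := ∃ (M : X.Modules) (hM : PicF.IsInvertible M) (s : Coh.structureModule X ⟶ M),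
  mk M hM = c ∧ CohB1.genLocus M s ≠ ⊥ ∧ CohB1.genLocus M s ≠ ⊤

theorem IsPos.isEff {c : Pic X} (h : IsPos c) : IsEff c := by
  obtain ⟨M, hM, s, hc, h1, -⟩ := h
  exact ⟨M, hM, s, hc, h1⟩

theorem isPos_mk [IsReduced X] {M : X.Modules} (hM : PicF.IsInvertible M) (s : Coh.structureModule X ⟶ M)
    (hs : s ≠ 0) (hs' : ¬ IsIso s) : IsPos (mk M hM) :=
  ⟨M, hM, s, rfl, fun h => hs ((genLocus_eq_bot_iff hM s).mp h), fun h => hs' ((isIso_iff_genLocus s).mpr h)⟩

theorem IsPos.exists_section {c : Pic X} (h : IsPos c) : ∃ (M : X.Modules) (s : Coh.structureModule X ⟶ M)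
    (hM : PicF.IsInvertible M), mk M hM = c ∧ s ≠ 0 ∧ ¬ IsIso s := by
  obtain ⟨M, hM, s, hc, h1, h2⟩ := h
  refine ⟨M, s, hM, hc, ?_, fun h => h2 ((isIso_iff_genLocus s).mp h)⟩
  rintro rfl
  exact h1 genLocus_eq_bot_of_eq_zero

/-- A representative of a positive class has a section with the two properties. -/
theorem IsPos.exists_section' {M : X.Modules} {hM : PicF.IsInvertible M} (h : IsPos (mk M hM)) :
    ∃ (s : Coh.structureModule X ⟶ M), s ≠ 0 ∧ ¬ IsIso s := by
  obtain ⟨N, s, hN, hc, h1, h2⟩ := h.exists_section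
  obtain ⟨e⟩ := (mk_eq_iff hN hM).mp hc
  refine ⟨s ≫ e.hom, fun h => h1 ?_, fun h => h2 ?_⟩
  · rw [← cancel_mono e.hom, h, zero_comp]
  · exact IsIso.of_isIso_comp_right s e.hom

theorem isEff_one [Nonempty X] : IsEff (1 : Pic X) := by
  refine ⟨_, isInvertible_structureModule, 𝟙 _, rfl, ?_⟩
  rw [(isIso_iff_genLocus _).mp inferInstance]
  intro h
  obtain ⟨x⟩ := (inferInstance : Nonempty X)
  have : x ∈ (⊥ : X.Opens) := by rw [← h]; trivial
  exact this

theorem inf_ne_bot [PreirreducibleSpace X] {U V : X.Opens} (hU : U ≠ ⊥) (hV : V ≠ ⊥) : U ⊓ V ≠ ⊥ := by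
  rw [Ne, ← Opens.not_nonempty_iff_eq_bot, not_not] at hU hV ⊢
  exact nonempty_preirreducible_inter U.2 V.2 hU hV

theorem IsEff.mul [PreirreducibleSpace X] {c d : Pic X} (hc : IsEff c) (hd : IsEff d) : IsEff (c * d) := by
  obtain ⟨M, hM, s, rfl, h1⟩ := hc
  obtain ⟨N, hN, t, rfl, h2⟩ := hd
  refine ⟨_, isInvertible_tensorMod hM hN, tmulHom s t, rfl, ?_⟩
  rw [genLocus_tmulHom hM hN]
  exact inf_ne_bot h1 h2

theorem IsPos.mul [PreirreducibleSpace X] {c d : Pic X} (hc : IsPos c) (hd : IsEff d) : IsPos (c * d) := by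
  obtain ⟨M, hM, s, rfl, h1, h3⟩ := hc
  obtain ⟨N, hN, t, rfl, h2⟩ := hd
  refine ⟨_, isInvertible_tensorMod hM hN, tmulHom s t, rfl, ?_, ?_⟩
  · rw [genLocus_tmulHom hM hN]
    exact inf_ne_bot h1 h2
  · rw [genLocus_tmulHom hM hN]
    exact fun h => h3 (top_le_iff.mp (h ▸ inf_le_left))

theorem IsEff.pow [PreirreducibleSpace X] {c : Pic X} (hc : IsEff c) (n : ℕ) : IsEff (c ^ n) := by
  have : Nonempty X := by
    obtain ⟨M, hM, s, rfl, h1⟩ := hc
    rw [Ne, ← Opens.not_nonempty_iff_eq_bot, not_not] at h1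
    exact ⟨h1.some⟩
  induction n with
  | zero => rw [pow_zero]; exact isEff_one
  | succ n ih => rw [pow_succ]; exact ih.mul hc

theorem IsPos.pow [PreirreducibleSpace X] {c : Pic X} (hc : IsPos c) (n : ℕ) (hn : 1 ≤ n) : IsPos (c ^ n) := by
  obtain ⟨m, rfl⟩ := Nat.exists_eq_add_of_le' hn
  rw [pow_succ, mul_comm]
  exact hc.mul (hc.isEff.pow m)

/-- Pull-back of a class with a section. -/
theorem isPos_pull (f : X ⟶ Y) {M : Y.Modules} (hM : PicF.IsInvertible M) (s : Coh.structureModule Y ⟶ M)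
    (x x' : X) (h1 : f x ∈ CohB1.genLocus M s) (h2 : f x' ∉ CohB1.genLocus M s) : IsPos (pull f (mk M hM)) := by
  refine ⟨_, isInvertible_pullback f hM, pullHom f s, rfl, ?_, ?_⟩
  · rw [Groth.Agent.Ega1.AmpFam.genLocus_pullHom f hM s]
    intro h
    have : x ∈ (⊥ : X.Opens) := h ▸ h1
    exact this
  · rw [Groth.Agent.Ega1.AmpFam.genLocus_pullHom f hM s]
    intro h
    exact h2 (show x' ∈ f ⁻¹ᵁ CohB1.genLocus M s by rw [h]; trivial)

theorem isEff_pull (f : X ⟶ Y) {M : Y.Modules} (hM : PicF.IsInvertible M) (s : Coh.structureModule Y ⟶ M)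
    (x : X) (h1 : f x ∈ CohB1.genLocus M s) : IsEff (pull f (mk M hM)) := by
  refine ⟨_, isInvertible_pullback f hM, pullHom f s, rfl, ?_⟩
  rw [Groth.Agent.Ega1.AmpFam.genLocus_pullHom f hM s]
  intro h
  have : x ∈ (⊥ : X.Opens) := h ▸ h1
  exact this

/-- If `f` takes two different values `f x`, `f x'` with `{f x'}` closed and `L` is ample, some positive power of `L`
pulls back to a positive class. -/
theorem exists_isPos_pull_pow (f : X ⟶ Y) {L : Y.Modules} (hL : CohB1.IsAmple L) (x x' : X)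
    (hcl : IsClosed ({f x'} : Set Y)) (hne : f x ≠ f x') (n : ℕ) (hn : 1 ≤ n) :
    ∃ m : ℕ, 1 ≤ m ∧ IsPos (pull f (mk L hL.1) ^ (m * n)) := by
  obtain ⟨m, t, h1, h2, -⟩ := IsAmple.exists_genLocus_le hL (x := f x)
    (W := ⟨({f x'} : Set Y)ᶜ, hcl.isOpen_compl⟩) (by simpa using hne)
  obtain ⟨n, rfl⟩ := Nat.exists_eq_add_of_le' hn
  refine ⟨m + 1, by omega, ?_⟩
  have h3 : pull f (mk L hL.1) ^ ((m + 1) * (n + 1)) = pull f (mk _
      (isInvertible_tensorPow (isInvertible_tensorPow hL.1 (m + 1)) (n + 1))) := by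
    rw [mk_tensorPow (isInvertible_tensorPow hL.1 (m + 1)), mk_tensorPow hL.1, map_pow, map_pow, pow_mul]
  rw [h3]
  have h4 := genLocus_powHom (isInvertible_tensorPow hL.1 (m + 1)) t n
  refine isPos_pull f _ (powHom t (n + 1)) x x' (by rw [h4]; exact h1) ?_
  rw [h4]
  exact fun h => (h2 h) rfl

end K518.Sec
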