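import Groth.Agent.AbVar.K518.Phi

/-!
# Dictionary between isomorphisms of modules and equations in the Picard group
-/

set_option autoImplicit false
universe u

open CategoryTheory Limits MonoidalCategory CartesianMonoidalCategory AlgebraicGeometry
open scoped MonObj
open Groth.Agent.Grpsch.PicGrp Groth.Agent.Grpsch.Cube Groth.Agent.Fdesc.LocGen
open K518.Phi

namespace K518.Dict

theorem isInvertible_of_iso {X : Scheme.{u}} {L M : X.Modules} (f : L ≅ M) (hL : PicF.IsInvertible L) :
    PicF.IsInvertible M := by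
  rw [isInvertible_iff] at hL ⊢
  intro x
  obtain ⟨U, e, hx, he⟩ := hL x
  exact ⟨U, f.hom.app U e, hx, he.app f.hom⟩

variable {K : Type u} [Field K] {A B : Over (Spec (CommRingCat.of K))} [GrpObj A] [GrpObj B]

/-- `t_{ρ(x)}^*L ⊗ β^*(M^n) ≅ L ⊗ β^*(t_x^*M^n)` says `φ_L(ρ x) = β^*φ_M(x)^n`. -/
theorem adj_iff {L : A.left.Modules} (hL : PicF.IsInvertible L) {M : B.left.Modules} (hM : PicF.IsInvertible M)
    (β : A ⟶ B) (ρ : B ⟶ A) (n : ℕ) (x : Pt B) :
    Nonempty (CohB1.tensorMod ((Scheme.Modules.pullback ((𝟙 A * (toUnit A ≫ x ≫ ρ))).left).obj (L))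
        ((Scheme.Modules.pullback β.left).obj (CohB1.tensorPow M n)) ≅
      CohB1.tensorMod (L) ((Scheme.Modules.pullback β.left).obj
        ((Scheme.Modules.pullback ((𝟙 B * (toUnit B ≫ x))).left).obj (CohB1.tensorPow M n)))) ↔
    phi (mk L hL) (x ≫ ρ) = pl β (phi (mk M hM) x) ^ n := by
  have hMn := isInvertible_tensorPow hM n
  rw [← mk_eq_iff (isInvertible_tensorMod (isInvertible_pullback _ hL) (isInvertible_pullback _ hMn))
    (isInvertible_tensorMod hL (isInvertible_pullback _ (isInvertible_pullback _ hMn))),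
    ← mk_mul_mk (isInvertible_pullback _ hL) (isInvertible_pullback _ hMn),
    ← mk_mul_mk hL (isInvertible_pullback _ (isInvertible_pullback _ hMn)), ← pull_mk _ hL, ← pull_mk _ hMn,
    ← pull_mk _ (isInvertible_pullback _ hMn), ← pull_mk _ hMn, mk_tensorPow hM]
  change pl (tr (x ≫ ρ)) (mk L hL) * pl β (mk M hM ^ n) = mk L hL * pl β (pl (tr x) (mk M hM ^ n)) ↔ _
  rw [phi, phi, map_pow, map_pow, map_pow, map_mul, map_inv, mul_pow, inv_pow]
  constructor
  · intro h
    have h := congrArg Additive.ofMul h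
    apply Additive.ofMul.injective
    simp only [ofMul_mul, ofMul_inv] at h ⊢
    linear_combination (norm := module) h
  · intro h
    have h := congrArg Additive.ofMul h
    apply Additive.ofMul.injective
    simp only [ofMul_mul, ofMul_inv] at h ⊢
    linear_combination (norm := module) h

/-- `t_{α(x)}^*L ⊗ α^*L ≅ L ⊗ α^*t_x^*L` says `φ_L(α x) = α^*φ_L(x)`. -/
theorem sym_iff {L : A.left.Modules} (hL : PicF.IsInvertible L) (α : A ⟶ A) (x : Pt A) :
    Nonempty (CohB1.tensorMod ((Scheme.Modules.pullback ((𝟙 A * (toUnit A ≫ x ≫ α))).left).obj (L))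
        ((Scheme.Modules.pullback α.left).obj (L)) ≅
      CohB1.tensorMod (L) ((Scheme.Modules.pullback α.left).obj
        ((Scheme.Modules.pullback ((𝟙 A * (toUnit A ≫ x))).left).obj (L)))) ↔
    phi (mk L hL) (x ≫ α) = pl α (phi (mk L hL) x) := by
  rw [← mk_eq_iff (isInvertible_tensorMod (isInvertible_pullback _ hL) (isInvertible_pullback _ hL))
    (isInvertible_tensorMod hL (isInvertible_pullback _ (isInvertible_pullback _ hL))),
    ← mk_mul_mk (isInvertible_pullback _ hL) (isInvertible_pullback _ hL),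
    ← mk_mul_mk hL (isInvertible_pullback _ (isInvertible_pullback _ hL)), ← pull_mk _ hL, ← pull_mk _ hL,
    ← pull_mk _ (isInvertible_pullback _ hL), ← pull_mk _ hL]
  change pl (tr (x ≫ α)) (mk L hL) * pl α (mk L hL) = mk L hL * pl α (pl (tr x) (mk L hL)) ↔ _
  rw [phi, phi, map_mul, map_inv]
  constructor
  · intro h
    have h := congrArg Additive.ofMul h
    apply Additive.ofMul.injective
    simp only [ofMul_mul, ofMul_inv] at h ⊢
    linear_combination (norm := module) h
  · intro h
    have h := congrArg Additive.ofMul h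
    apply Additive.ofMul.injective
    simp only [ofMul_mul, ofMul_inv] at h ⊢
    linear_combination (norm := module) h

/-- `t_x^*M ⊗ L^m ≅ M ⊗ t_{α(x)}^*L^m` says `φ_M(x) = φ_L(α x)^m`. -/
theorem pos_iff {L : A.left.Modules} (hL : PicF.IsInvertible L) {M : A.left.Modules} (hM : PicF.IsInvertible M)
    (α : A ⟶ A) (m : ℕ) (x : Pt A) :
    Nonempty (CohB1.tensorMod ((Scheme.Modules.pullback ((𝟙 A * (toUnit A ≫ x))).left).obj (M)) (CohB1.tensorPow L m) ≅
      CohB1.tensorMod (M) ((Scheme.Modules.pullback ((𝟙 A * (toUnit A ≫ x ≫ α))).left).obj (CohB1.tensorPow L m))) ↔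
    phi (mk M hM) x = phi (mk L hL) (x ≫ α) ^ m := by
  have hLm := isInvertible_tensorPow hL m
  rw [← mk_eq_iff (isInvertible_tensorMod (isInvertible_pullback _ hM) hLm)
    (isInvertible_tensorMod hM (isInvertible_pullback _ hLm)),
    ← mk_mul_mk (isInvertible_pullback _ hM) hLm, ← mk_mul_mk hM (isInvertible_pullback _ hLm), ← pull_mk _ hM,
    ← pull_mk _ hLm, mk_tensorPow hL]
  change pl (tr x) (mk M hM) * mk L hL ^ m = mk M hM * pl (tr (x ≫ α)) (mk L hL ^ m) ↔ _
  rw [phi, phi, map_pow, mul_pow, inv_pow]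
  constructor
  · intro h
    have h := congrArg Additive.ofMul h
    apply Additive.ofMul.injective
    simp only [ofMul_mul, ofMul_inv] at h ⊢
    linear_combination (norm := module) h
  · intro h
    have h := congrArg Additive.ofMul h
    apply Additive.ofMul.injective
    simp only [ofMul_mul, ofMul_inv] at h ⊢
    linear_combination (norm := module) h

/-- `t_x^*L ≅ L` says `φ_L(x) = 1`. -/
theorem inv_iff {L : A.left.Modules} (hL : PicF.IsInvertible L) (x : Pt A) :
    Nonempty ((Scheme.Modules.pullback ((𝟙 A * (toUnit A ≫ x))).left).obj L ≅ L) ↔ phi (mk L hL) x = 1 := by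
  rw [← mk_eq_iff (isInvertible_pullback _ hL) hL, ← pull_mk _ hL, phi, mul_inv_eq_one]

end K518.Dict
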