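import Groth.Agent.Pic13.H970.IntForm
import Groth.Agent.Fga.HodgePush
import Groth.Agent.Fga.MultFinal
import Groth.Agent.Divis.StalkMod
import Groth.Agent.Ega3B.DevQC
import Groth.Agent.CurvesC.UnitCoh
import Mathlib.AlgebraicGeometry.Morphisms.FlatRank
import Mathlib.AlgebraicGeometry.FunctionField

/-!
# Intersection numbers and finite flat morphisms

* `finrank_stalk_push`: the rank of a finite flat morphism at the generic point is the dimension of the stalk of the
  direct image of the structure module.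
* `I_pull`: `(f^* c_1 ⋯ f^* c_r) = deg(f) (c_1 ⋯ c_r)` for a finite flat morphism of proper `k`-schemes, target integral.
-/

set_option autoImplicit false
universe u

open CategoryTheory CategoryTheory.Limits AlgebraicGeometry Opposite TopologicalSpace
open Groth.Agent

namespace K518.IntDeg

theorem finrank_stalk_push {E C : Scheme.{u}} (φ : E ⟶ C) [IsIntegral C] [IsFinite φ] [Flat φ] :
    Module.finrank (C.presheaf.stalk (genericPoint C))
      (((Scheme.Modules.pushforward φ).obj (Coh.structureModule E)).presheaf.stalk (genericPoint C)) =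
        φ.finrank (genericPoint C) := by
  have hM : Coh.IsQCoh ((Scheme.Modules.pushforward φ).obj (Coh.structureModule E)) :=
    Ega3B.DevQC.isQCoh_push φ (CurvesC.UnitCoh.isQCoh_unit E)
  obtain ⟨V, hV, hη, -⟩ := exists_isAffineOpen_mem_and_subset (x := genericPoint C) (U := ⊤) trivial
  let : Algebra Γ(C, V) Γ(E, φ ⁻¹ᵁ V) := (φ.app V).hom.toAlgebra
  have hfin : Module.Finite Γ(C, V) Γ(E, φ ⁻¹ᵁ V) := IsFinite.finite_app φ V hV
  have hflat : Module.Flat Γ(C, V) Γ(E, φ ⁻¹ᵁ V) := by
    have h := Scheme.Hom.flat_appLE φ hV (hV.preimage φ) le_rfl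
    rw [Scheme.Hom.appLE_eq_app] at h
    exact h
  have h1 : Module.rankAtStalk (R := Γ(C, V)) Γ(E, φ ⁻¹ᵁ V) (hV.primeIdealOf ⟨_, hη⟩) =
      Module.finrank (C.presheaf.stalk (genericPoint C))
      (((Scheme.Modules.pushforward φ).obj (Coh.structureModule E)).presheaf.stalk (genericPoint C)) := by
    refine Divis.StalkMod.stalk_elim _ hM hV _ hη ?_
    intro a1 a2 a3 a4 l _ _ _
    have hflat' : Module.Flat Γ(C, V) Γ((Scheme.Modules.pushforward φ).obj (Coh.structureModule E), V) := hflat
    have hfin' : Module.Finite Γ(C, V) Γ((Scheme.Modules.pushforward φ).obj (Coh.structureModule E), V) := hfin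
    have hb := IsLocalizedModule.isBaseChange (hV.primeIdealOf ⟨_, hη⟩).asIdeal.primeCompl
      (C.presheaf.stalk (genericPoint C)) l
    have h2 := Module.rankAtStalk_isBaseChange hb (IsLocalRing.closedPoint (C.presheaf.stalk (genericPoint C)))
    have h3 : (IsLocalRing.closedPoint (C.presheaf.stalk (genericPoint C))).comap
        (algebraMap Γ(C, V) (C.presheaf.stalk (genericPoint C))) = hV.primeIdealOf ⟨_, hη⟩ := by
      apply PrimeSpectrum.ext
      exact IsLocalization.AtPrime.under_maximalIdeal _ _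
    rw [h3] at h2
    have h4 : Module.Free (C.presheaf.stalk (genericPoint C))
        (((Scheme.Modules.pushforward φ).obj (Coh.structureModule E)).presheaf.stalk (genericPoint C)) :=
      inferInstanceAs (Module.Free C.functionField _)
    rw [Module.rankAtStalk_eq_finrank_of_free] at h2
    exact h2.symm
  rw [← h1]
  have hpb : IsPullback (hV.preimage φ).fromSpec (Spec.map (φ.app V)) φ hV.fromSpec := by
    refine (IsOpenImmersion.isPullback _ (hV.preimage φ).fromSpec hV.fromSpec φ ?_ ?_).flip
    · have := IsAffineOpen.SpecMap_appLE_fromSpec φ hV (hV.preimage φ) le_rfl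
      rw [Scheme.Hom.appLE_eq_app] at this
      exact this.symm
    · rw [hV.opensRange_fromSpec, (hV.preimage φ).opensRange_fromSpec]
  have h5 : hV.fromSpec (hV.primeIdealOf ⟨_, hη⟩) = genericPoint C := hV.fromSpec_primeIdealOf ⟨_, hη⟩
  conv_rhs => rw [← h5]
  rw [← Scheme.Hom.finrank_of_isPullback _ _ _ _ hpb (hV.primeIdealOf ⟨_, hη⟩)]
  exact (Scheme.Hom.finrank_SpecMap_algebraMap Γ(C, V) Γ(E, φ ⁻¹ᵁ V) _).symm

open Groth.Agent.Grpsch.PicGrp Groth.Agent.Pic13.H970.IntForm in
/-- **Degree formula**. -/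
theorem I_pull (k : Type u) [Field k] {X Z : Scheme.{u}}
    [X.Over (Spec (CommRingCat.of k))] [Z.Over (Spec (CommRingCat.of k))]
    [IsProper (X ↘ (Spec (CommRingCat.of k)))] [IsProper (Z ↘ (Spec (CommRingCat.of k)))] [IsIntegral X]
    (f : Z ⟶ X) (hf : f ≫ (X ↘ (Spec (CommRingCat.of k))) = Z ↘ (Spec (CommRingCat.of k)))
    [IsFinite f] [Flat f] (d : ℕ) (hd : topologicalKrullDim X ≤ d) (hZ : topologicalKrullDim Z ≤ d)
    {r : ℕ} (hr : topologicalKrullDim X ≤ r) (c : Fin r → Pic X) :
    I k Z d (Coh.structureModule Z) (fun i => pull f (c i)) =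
      (f.finrank (genericPoint X) : ℤ) * I k X d (Coh.structureModule X) c := by
  obtain ⟨M, hM, rfl⟩ := exists_rep X c
  have nX : IsNoetherian X := Fga.HypSec.isNoetherian k X
  have nZ : IsNoetherian Z := Fga.HypSec.isNoetherian k Z
  have hcoh : Coh.IsCoh (Coh.structureModule Z) := CurvesC.UnitCoh.isCoh_unit Z
  have hM' : ∀ i, PicF.IsInvertible ((Scheme.Modules.pullback f).obj (M i)) := fun i =>
    Fdesc.LocGen.isInvertible_pullback f (hM i)
  have e1 : (fun i => pull f (mk (M i) (hM i))) = fun i => mk ((Scheme.Modules.pullback f).obj (M i)) (hM' i) := rfl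
  rw [e1, ← intNum_eq, ← intNum_eq]
  have h1 := Fga.HodgePush.intNum_push k X Z f hf d d hd hZ M hM (Coh.structureModule Z) hcoh (fun I =>
    Fga.HodgePush.acyc_of_isAffineHom f
      (Fga.SnapperTwist.isCoh_tensor' (Fdesc.LocGen.isInvertible_pullback f (Fga.HodgePush.isInvertible_word M hM I)) hcoh).1)
  rw [h1]
  have hpush : Coh.IsCoh ((Coh.push f).obj (Coh.structureModule Z)) := Fga.HodgePush.isCoh_push f hcoh
  obtain ⟨h2, h3⟩ := Fga.MultFinal.intNum_eq k X d hd (𝟙 X) (Category.id_comp _) M hM hr
    ((Coh.push f).obj (Coh.structureModule Z)) hpush (fun x _ => ⟨x, rfl⟩)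
  rw [h3]
  have e2 : FGA.intNum k X d (fun j => (Scheme.Modules.pullback (𝟙 X)).obj (M j)) (Coh.structureModule X) =
      FGA.intNum k X d M (Coh.structureModule X) := by
    have hM'' : ∀ i, PicF.IsInvertible ((Scheme.Modules.pullback (𝟙 X)).obj (M i)) := fun i =>
      Fdesc.LocGen.isInvertible_pullback (𝟙 X) (hM i)
    rw [intNum_eq k X d _ _ hM'', intNum_eq k X d _ _ hM]
    congr 1
    funext i
    exact pull_id (mk (M i) (hM i))
  rw [e2]
  congr 2
  have hfield : Module.length (X.presheaf.stalk (genericPoint X))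
      (((Coh.push f).obj (Coh.structureModule Z)).presheaf.stalk (genericPoint X)) = (f.finrank (genericPoint X) : ℕ∞) := by
    have hfin : Module.Finite (X.presheaf.stalk (genericPoint X))
        (((Coh.push f).obj (Coh.structureModule Z)).presheaf.stalk (genericPoint X)) :=
      Ega1.FTStalkFin.stalk_finite _ hpush.2 _
    rw [← finrank_stalk_push f]
    exact @Module.length_eq_finrank X.functionField
      (((Coh.push f).obj (Coh.structureModule Z)).presheaf.stalk (genericPoint X)) _ _ _ hfin
  have h4 : (Module.length (X.presheaf.stalk ((𝟙 X : X ⟶ X) (genericPoint X)))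
      (((Coh.push f).obj (Coh.structureModule Z)).presheaf.stalk ((𝟙 X : X ⟶ X) (genericPoint X)))).toNat =
        f.finrank (genericPoint X) := by
    change (Module.length (X.presheaf.stalk (genericPoint X))
      (((Coh.push f).obj (Coh.structureModule Z)).presheaf.stalk (genericPoint X))).toNat = _
    rw [hfield]
    rfl
  exact h4

end K518.IntDeg
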