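import Groth.Agent.AbVar.K518.IntMul
import Groth.Agent.Fdesc.StructMod
import Groth.Agent.AbVar.K518.Sec

/-!
# Intersection numbers of a positive class with ample classes

`I_pos_of_isPos`: on an integral proper scheme of dimension `r + 1` over a field, `(M · L_1 ⋯ L_r) > 0` if `M` is the
class of a nonzero effective divisor and the `L_i` are ample.
-/

set_option autoImplicit false
universe u

open CategoryTheory CategoryTheory.Limits AlgebraicGeometry Opposite TopologicalSpace
open Groth.Agent.Grpsch.PicGrp Groth.Agent.Fdesc.LocGen Groth.Agent.Pic13.H970.IntForm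
open Groth.Agent.Fga.RegSec Groth.Agent.Fga.PicMon Groth.Agent.Fga.IntAdd Groth.Agent.Ega2

namespace K518.IntPos

/-- A section generating somewhere on an integral scheme generates at the associated points. -/
theorem ass_subset_genLocus {X : Scheme.{u}} [IsIntegral X] [IsLocallyNoetherian X] {M : X.Modules} (hM : PicF.IsInvertible M)
    (s : Coh.structureModule X ⟶ M) (hs : CohB1.genLocus M s ≠ ⊥) :
    AssSch.Ass (Coh.structureModule X) ⊆ CohB1.genLocus M s := by
  intro x hx
  rw [Groth.Agent.Fdesc.StructMod.mem_Ass_structureModule_iff_stalk] at hx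
  by_contra hcon
  obtain ⟨U, hxU, e, a, -, -, ha, hmax⟩ := exists_gen_of_not_mem s hM hcon
  have h1 : X.presheaf.germ U x hxU a ∈ ⋃ p ∈ associatedPrimes (X.presheaf.stalk x) (X.presheaf.stalk x),
      (p : Set (X.presheaf.stalk x)) := Set.mem_biUnion hx hmax
  rw [biUnion_associatedPrimes_eq_compl_nonZeroDivisors, Set.mem_compl_iff, SetLike.mem_coe,
    mem_nonZeroDivisors_iff_ne_zero, not_not] at h1
  have : Nonempty U := ⟨⟨x, hxU⟩⟩
  have h3 : a = 0 := by
    apply germ_injective_of_isIntegral X x hxU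
    rw [h1, map_zero]
  rw [h3, Scheme.basicOpen_zero] at ha
  have hU : U ≠ ⊥ := by
    rintro rfl
    exact hxU
  exact K518.Sec.inf_ne_bot hs hU ha

variable (k : Type u) [Field k] (X : Scheme.{u}) [X.Over (Spec (CommRingCat.of k))]
  [IsProper (X ↘ Spec (CommRingCat.of k))]

include k in
/-- The complement of a proper nonempty open subset which is locally a principal open. -/
theorem dim_compl [IsIntegral X] (r : ℕ) (hr : topologicalKrullDim X = ((r + 1 : ℕ) : WithBot ℕ∞)) (W : X.Opens)
    (h1 : W ≠ ⊥) (h2 : W ≠ ⊤)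
    (hloc : ∀ x : X, x ∉ W → ∃ (U : X.Opens) (_ : x ∈ U) (a : Γ(X, U)), W ⊓ U = X.basicOpen a) :
    topologicalKrullDim ((W : Set X)ᶜ : Set X) = r := by
  have := Groth.Agent.Fga.HypSec.isNoetherian k X
  apply le_antisymm
  · refine Groth.Agent.Fga.DimCut.dim_le_of_forall_not_subset _ W.isOpen.isClosed_compl ?_ r hr.le
    intro Z hZ hsub
    rw [irreducibleComponents_eq_singleton, Set.mem_singleton_iff] at hZ
    subst hZ
    rw [Ne, ← Opens.not_nonempty_iff_eq_bot, not_not] at h1
    obtain ⟨x, hx⟩ := h1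
    exact hsub (Set.mem_univ x) hx
  · have hne : ((W : Set X)ᶜ : Set X).Nonempty := by
      rw [Set.nonempty_iff_ne_empty, Ne, Set.compl_empty_iff]
      intro h
      exact h2 (Opens.ext h)
    obtain ⟨y, hy, hycl⟩ := IsClosed.exists_closed_singleton W.isOpen.isClosed_compl hne
    obtain ⟨U, hyU, a, ha⟩ := hloc y hy
    refine Groth.Agent.Fga.DimCut.le_dim_of_local_equation k X y hycl U hyU a ?_ _ ?_ r hr.ge
    · rw [← ha]
      exact fun h => hy h.1
    · intro z hz hz' h
      rw [← ha] at hz'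
      exact hz' ⟨h, hz⟩

/-- **Positivity**: `(M · L_1 ⋯ L_r) > 0`. -/
theorem I_pos_of_isPos [IsIntegral X] {r : ℕ} (hr : topologicalKrullDim X = ((r + 1 : ℕ) : WithBot ℕ∞))
    {m : Pic X} (hm : K518.Sec.IsPos m) (L : Fin r → X.Modules) (hL : ∀ i, CohB1.IsAmple (L i))
    (hLi : ∀ i, PicF.IsInvertible (L i)) :
    0 < I k X (r + 1) (Coh.structureModule X) (Fin.cons m⁻¹ (fun i => (mk (L i) (hLi i))⁻¹) : Fin (r + 1) → Pic X) := by
  have := Groth.Agent.Fga.HypSec.isNoetherian k X
  obtain ⟨M, hM, s, rfl, hs1, hs2⟩ := hm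
  have hF : Coh.IsCoh (Coh.structureModule X) := Groth.Agent.CurvesC.UnitCoh.isCoh_unit X
  have hNF : Coh.IsCoh (CohB1.tensorMod M (Coh.structureModule X)) :=
    Groth.Agent.Sga67.CohBasic.isCoh_of_iso (Groth.Agent.Ega2.Tens.swap _ _) (Groth.Agent.Fga.TwistCoh.isCoh_tensor hF hM)
  have hmono : Mono (mulS s (Coh.structureModule X)) :=
    mulS_mono s _ hF (Groth.Agent.Sga67.CohBasic.isCoh_kernel _ hF hNF.1).1 (ass_subset_genLocus hM s hs1)
  have hC : Coh.IsCoh (cokernel (mulS s (Coh.structureModule X))) := Groth.Agent.Sga67.CohBasic.isCoh_cokernel _ hF.1 hNF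
  have hdim : topologicalKrullDim (CohB1.support (cokernel (mulS s (Coh.structureModule X)))) = r := by
    rw [support_cokernel_mulS s _ hM hF.2, K518.IntMul.support_unit, ← Set.compl_eq_univ_sdiff]
    refine dim_compl k X r hr _ hs1 hs2 fun x hx => ?_
    obtain ⟨U, hxU, e, a, -, -, ha, -⟩ := exists_gen_of_not_mem s hM hx
    exact ⟨U, hxU, a, ha⟩
  have hS : (ShortComplex.mk (mulS s (Coh.structureModule X)) (cokernel.π (mulS s (Coh.structureModule X)))
      (cokernel.condition _)).ShortExact :=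
    { exact := ShortComplex.exact_cokernel _
      mono_f := hmono
      epi_g := inferInstanceAs (Epi (cokernel.π _)) }
  have hA : PicF.IsInvertible (dual M) := isInvertible_dual hM
  have hd : topologicalKrullDim X ≤ (r + 1 : ℕ) := hr.le
  have hL' : ∀ i, PicF.IsInvertible (dual (L i)) := fun i => isInvertible_dual (hLi i)
  have hadd := isAdd_tensor X (isAdd_intNum k X (r + 1) hd (fun i => dual (L i)) hL') hA _ hS hF hNF hC
  have hmul : mc (dual M) * mc M = 1 := by
    rw [mul_comm, ← mc_tensor, ← mc_one]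
    exact mc_eq (@asIso _ _ _ _ (ev M) (isIso_ev hM))
  have hiso : FGA.intNum k X (r + 1) (fun i => dual (L i)) (CohB1.tensorMod (dual M) (CohB1.tensorMod M (Coh.structureModule X))) =
      FGA.intNum k X (r + 1) (fun i => dual (L i)) (Coh.structureModule X) := by
    obtain ⟨e⟩ := (mc_eq_iff (CohB1.tensorMod (dual M) (CohB1.tensorMod M (Coh.structureModule X))) (Coh.structureModule X)).mp (by
      rw [mc_tensor, mc_tensor, ← mul_assoc, hmul, one_mul])
    exact intNum_iso k X (r + 1) _ e
  have e1 : (fun i => (mk (L i) (hLi i))⁻¹) = fun i => mk (dual (L i)) (isInvertible_dual (hLi i)) := rfl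
  have e2 : (mk M hM)⁻¹ = mk (dual M) hA := rfl
  rw [e2, I_cons_mk k X (r + 1) _ hA, e1, ← intNum_eq, ← intNum_eq]
  simp only at hadd
  rw [hiso] at hadd
  rw [hadd, add_sub_cancel_left]
  have h3 := I_pos k X (r + 1) hd (CohB1.tensorMod (dual M) (cokernel (mulS s (Coh.structureModule X))))
    (Groth.Agent.Sga67.CohBasic.isCoh_of_iso (Groth.Agent.Ega2.Tens.swap _ _) (Groth.Agent.Fga.TwistCoh.isCoh_tensor hC hA))
    L hL hLi (by rw [Groth.Agent.Fga.PosMain.support_tensor X hA hM hmul, hdim])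
  rw [e1, ← intNum_eq] at h3
  exact h3

end K518.IntPos
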