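import Mathlib.LinearAlgebra.Multilinear.Basic
import Mathlib.Algebra.Polynomial.Eval.Defs
import Mathlib.Algebra.Polynomial.Eval.Coeff
import Mathlib.Tactic

/-!
# Top coefficients of `t ↦ J (a + t b + t² c, …, a + t b + t² c)` for a multilinear `J`
-/

set_option autoImplicit false

open Finset Polynomial

namespace K518.MulPoly

variable {V : Type*} [AddCommGroup V]

/-- Adding elements which kill `J` does not change the value. -/
theorem map_add_null {r : ℕ} (J : MultilinearMap ℤ (fun _ : Fin r => V) ℤ) (N : Set V)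
    (hN : ∀ t ∈ N, ∀ (c : Fin r → V) (i : Fin r), J (Function.update c i t) = 0)
    (x t : Fin r → V) (ht : ∀ i, t i ∈ N) : J (fun i => x i + t i) = J x := by
  classical
  have key : ∀ s : Finset (Fin r), J (s.piecewise (fun i => x i + t i) x) = J x := by
    intro s
    induction s using Finset.induction with
    | empty => simp
    | insert i s hi ih =>
      rw [Finset.piecewise_insert, J.map_update_add, hN _ (ht i), add_zero]
      have h : Function.update (s.piecewise (fun i => x i + t i) x) i (x i) =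
          s.piecewise (fun i => x i + t i) x := by
        rw [Function.update_eq_self_iff, Finset.piecewise_eq_of_notMem _ _ _ hi]
      rw [h, ih]
  simpa using key univ

private theorem sum_le {r : ℕ} (σ : Fin r → Fin 3) : ∑ i, (σ i : ℕ) ≤ 2 * r := by
  calc ∑ i, (σ i : ℕ) ≤ ∑ _i : Fin r, 2 := Finset.sum_le_sum fun i _ => by have := (σ i).2; omega
  _ = 2 * r := by simp [mul_comm]

private theorem sum_add {r : ℕ} (σ : Fin r → Fin 3) : ∑ i, (σ i : ℕ) + ∑ i, (2 - (σ i : ℕ)) = 2 * r := by
  rw [← Finset.sum_add_distrib]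
  calc ∑ i, ((σ i : ℕ) + (2 - (σ i : ℕ))) = ∑ _i : Fin r, 2 := Finset.sum_congr rfl fun i _ => by
        have := (σ i).2; omega
  _ = 2 * r := by simp [mul_comm]

private theorem sum_eq_iff {r : ℕ} (σ : Fin r → Fin 3) : ∑ i, (σ i : ℕ) = 2 * r ↔ σ = fun _ => 2 := by
  constructor
  · intro h
    have h1 := sum_add σ
    rw [h] at h1
    have h2 : ∑ i, (2 - (σ i : ℕ)) = 0 := by omega
    rw [Finset.sum_eq_zero_iff] at h2
    funext i
    have := h2 i (Finset.mem_univ i)
    have h3 := (σ i).2
    apply Fin.ext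
    change (σ i : ℕ) = 2
    omega
  · rintro rfl
    simp [mul_comm]

private theorem sum_eq_pred_iff {r : ℕ} (hr : 1 ≤ r) (σ : Fin r → Fin 3) :
    ∑ i, (σ i : ℕ) = 2 * r - 1 ↔ ∃ i, Function.update (fun _ => (2 : Fin 3)) i 1 = σ := by
  constructor
  · intro h
    have h1 := sum_add σ
    rw [h] at h1
    have h2 : ∑ i, (2 - (σ i : ℕ)) = 1 := by omega
    obtain ⟨i, hi⟩ : ∃ i, 2 - (σ i : ℕ) ≠ 0 := by
      by_contra hcon
      push Not at hcon
      rw [Finset.sum_eq_zero fun i _ => hcon i] at h2
      omega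
    have h3 := Finset.add_sum_erase Finset.univ (fun i => 2 - (σ i : ℕ)) (Finset.mem_univ i)
    have h4 : ∑ x ∈ univ.erase i, (2 - (σ x : ℕ)) = 0 := by omega
    have h5 : 2 - (σ i : ℕ) = 1 := by omega
    rw [Finset.sum_eq_zero_iff] at h4
    refine ⟨i, ?_⟩
    funext j
    by_cases hj : j = i
    · subst hj
      rw [Function.update_self]
      apply Fin.ext
      change 1 = (σ j : ℕ)
      omega
    · rw [Function.update_of_ne hj]
      have := h4 j (Finset.mem_erase.mpr ⟨hj, Finset.mem_univ j⟩)
      have h6 := (σ j).2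
      apply Fin.ext
      change 2 = (σ j : ℕ)
      omega
  · rintro ⟨i, rfl⟩
    have h3 := Finset.add_sum_erase Finset.univ
      (fun j => ((Function.update (fun _ => (2 : Fin 3)) i 1 : Fin r → Fin 3) j : ℕ)) (Finset.mem_univ i)
    have h4 : ∑ j ∈ univ.erase i, ((Function.update (fun _ => (2 : Fin 3)) i 1 : Fin r → Fin 3) j : ℕ) =
        ∑ _j ∈ univ.erase i, 2 := Finset.sum_congr rfl fun j hj => by
      rw [Function.update_of_ne (Finset.ne_of_mem_erase hj)]
      rfl
    rw [← h3, Function.update_self, h4, Finset.sum_const, Finset.card_erase_of_mem (Finset.mem_univ i),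
      Finset.card_univ, Fintype.card_fin]
    change 1 + (r - 1) * 2 = 2 * r - 1
    omega

/-- The polynomial `t ↦ J (a + t b + t² c, …)` and its two top coefficients. -/
theorem exists_poly {r : ℕ} (J : MultilinearMap ℤ (fun _ : Fin r => V) ℤ) (a b c : V) :
    ∃ Q : ℤ[X], (∀ t : ℤ, J (fun _ => a + t • b + (t ^ 2) • c) = Q.eval t) ∧
      Q.coeff (2 * r) = J (fun _ => c) ∧
      (1 ≤ r → Q.coeff (2 * r - 1) = ∑ i, J (Function.update (fun _ => c) i b)) := by
  classical
  let v : Fin 3 → V := ![a, b, c]
  have hcoeff : ∀ n : ℕ, (∑ σ : Fin r → Fin 3, monomial (∑ i, (σ i : ℕ)) (J fun i => v (σ i)) : ℤ[X]).coeff n =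
      ∑ σ : Fin r → Fin 3, if ∑ i, (σ i : ℕ) = n then J (fun i => v (σ i)) else 0 := by
    intro n
    rw [Polynomial.finsetSum_coeff]
    exact Finset.sum_congr rfl fun σ _ => Polynomial.coeff_monomial
  refine ⟨∑ σ : Fin r → Fin 3, monomial (∑ i, (σ i : ℕ)) (J fun i => v (σ i)), ?_, ?_, ?_⟩
  · intro t
    have e : (fun _ : Fin r => a + t • b + (t ^ 2) • c) = fun _ : Fin r => ∑ j : Fin 3, t ^ (j : ℕ) • v j := by
      funext _
      rw [Fin.sum_univ_three]
      simp [v]
    rw [e, J.map_sum, Polynomial.eval_finsetSum]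
    refine Finset.sum_congr rfl fun σ _ => ?_
    rw [J.map_smul_univ (fun i => t ^ (σ i : ℕ)) (fun i => v (σ i)), Polynomial.eval_monomial,
      Finset.prod_pow_eq_pow_sum, smul_eq_mul, mul_comm]
  · rw [hcoeff]
    simp only [sum_eq_iff]
    rw [Finset.sum_ite_eq' Finset.univ (fun _ => (2 : Fin 3)) (fun σ => J fun i => v (σ i)), if_pos (Finset.mem_univ _)]
    rfl
  · intro hr
    rw [hcoeff]
    simp only [sum_eq_pred_iff hr]
    rw [← Finset.sum_filter]
    have h1 : (Finset.univ.filter fun σ : Fin r → Fin 3 => ∃ i, Function.update (fun _ => (2 : Fin 3)) i 1 = σ) =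
        Finset.univ.image (fun i => Function.update (fun _ => (2 : Fin 3)) i 1) := by
      ext σ
      simp
    rw [h1, Finset.sum_image]
    · refine Finset.sum_congr rfl fun i _ => ?_
      congr 1
      funext j
      by_cases hj : j = i
      · subst hj
        rw [Function.update_self, Function.update_self]
        rfl
      · rw [Function.update_of_ne hj, Function.update_of_ne hj]
        rfl
    · intro i _ j _ h
      by_contra hij
      have h2 := congrFun h i
      simp only at h2
      rw [Function.update_self, Function.update_of_ne hij] at h2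
      exact absurd h2 (by decide)

/-- A rational polynomial whose values agree, up to a constant, with those of an integral polynomial at almost all
integers where it does not vanish. -/
theorem coeff_eq_of_eval (P : ℚ[X]) (hP : P ≠ 0) (Q : ℤ[X]) (C : ℚ)
    (h : ∀ t : ℤ, P.eval (t : ℚ) ≠ 0 → P.eval (t : ℚ) * C = (Q.eval t : ℤ)) (n : ℕ) :
    P.coeff n * C = Q.coeff n := by
  have h1 : Set.Infinite {x : ℚ | (P * Polynomial.C C).eval x = (Q.map (Int.castRingHom ℚ)).eval x} := by
    have h2 : Set.Infinite (Set.range (Int.cast : ℤ → ℚ) \ (P.rootSet ℚ)) :=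
      (Set.infinite_range_of_injective Int.cast_injective).sdiff (Polynomial.rootSet_finite P ℚ)
    refine h2.mono ?_
    rintro _ ⟨⟨t, rfl⟩, ht⟩
    have h3 : P.eval (t : ℚ) ≠ 0 := by
      intro h4
      apply ht
      rw [Polynomial.mem_rootSet]
      exact ⟨hP, by simpa using h4⟩
    change (P * Polynomial.C C).eval (t : ℚ) = (Q.map (Int.castRingHom ℚ)).eval (t : ℚ)
    rw [Polynomial.eval_mul, Polynomial.eval_C, h t h3, Polynomial.eval_intCast_map]
    rfl
  have h5 := Polynomial.eq_of_infinite_eval_eq _ _ h1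
  have h6 := congrArg (fun R => R.coeff n) h5
  simpa [Polynomial.coeff_map] using h6

end K518.MulPoly
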