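import Groth.Agent.AbVar.K518.IntMul
import Groth.Agent.AbVar.K518.IntPos
import Groth.Agent.AbVar.K518.IntDeg
import Groth.Agent.AbVar.K518.MulPoly
import Groth.Agent.AbVar.K518.Phi
import Groth.Agent.S1842
import Groth.Agent.Grpsch.MulFlat
import Groth.Prelude.Def_EndRing

/-!
# Intersection numbers on an abelian variety

* `JA hr`: the intersection form on `Additive (Pic A)`, `dim A = r`.
* `J_pl`: `(f^*c_1 ⋯ f^*c_r) = deg f · (c_1 ⋯ c_r)` for a finite flat endomorphism `f`.
* `J_eq_zero_of_inv`: translation-invariant classes are numerically trivial.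
* `phi_D`: `φ_{D_L(f,g)} = f^∨ φ_L g + g^∨ φ_L f`.
-/

set_option autoImplicit false
universe u

open CategoryTheory Limits MonoidalCategory CartesianMonoidalCategory AlgebraicGeometry
open scoped MonObj
open Groth.Agent.Grpsch.PicGrp Groth.Agent.Grpsch.Cube
open K518.Phi

namespace K518.AVNum

variable {K : Type u} [Field K] {A B : Over (Spec (CommRingCat.of K))} [GrpObj A] [GrpObj B]

theorem isMonHom_mul [IsCommMonObj A] [IsCommMonObj B] (f g : A ⟶ B) [IsMonHom f] [IsMonHom g] : IsMonHom (f * g) :=
  (EndAV.Hom.of f + EndAV.Hom.of g).isMonHom_toHom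

section PhiD

variable [IsAlgClosed K] [IsProper A.hom] [GeometricallyIntegral A.hom] [IsProper B.hom] [GeometricallyIntegral B.hom]

/-- `φ_{D_L(f,g)} = f^∨ φ_L g + g^∨ φ_L f`. -/
theorem phi_D [IsCommMonObj B] (L : Pic B.left) (f g : A ⟶ B) [IsMonHom f] [IsMonHom g] (x : Pt A) :
    phi (D L f g) x = pl f (phi L (x ≫ g)) * pl g (phi L (x ≫ f)) := by
  have : IsCommMonObj A := isCommMonObj_of_isProper_of_geometricallyIntegral A
  have : IsMonHom (f * g) := isMonHom_mul f g
  have h1 : phi (pl (f * g) L) x = pl (f * g) (phi L (x ≫ (f * g))) := phi_pl (f * g) L x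
  rw [pl_mul_of_inv (phi_mem_Inv L _), MonObj.comp_mul, phi_mul, map_mul, map_mul] at h1
  rw [D, phi_mul_left, phi_mul_left, phi_inv_left, phi_inv_left, h1, phi_pl f, phi_pl g]
  apply Additive.ofMul.injective
  simp only [ofMul_mul, ofMul_inv]
  module

end PhiD

variable [IsProper A.hom]

instance isProper_over : IsProper (A.left ↘ Spec (CommRingCat.of K)) := inferInstanceAs (IsProper A.hom)

/-- The intersection form of `A`. -/
noncomputable abbrev JA {r : ℕ} (hr : topologicalKrullDim A.left = r) :
    MultilinearMap ℤ (fun _ : Fin r => Additive (Pic A.left)) ℤ := K518.IntMul.J K A.left hr.le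

variable [GeometricallyIntegral A.hom] {r : ℕ} (hr : topologicalKrullDim A.left = r)

/-- Degree formula. -/
theorem J_pl (f : A ⟶ A) [IsFinite f.left] [Flat f.left] (n : ℕ) (hn : ∀ a : A.left, f.left.finrank a = n)
    (c : Fin r → Additive (Pic A.left)) :
    JA hr (fun i => Additive.ofMul (pl f (c i).toMul)) = n * JA hr c := by
  have : IsIntegral A.left := K518.Basic.isIntegral_left A
  rw [K518.IntMul.J_apply, K518.IntMul.J_apply]
  have h := K518.IntDeg.I_pull K f.left (by exact Over.w f) r hr.le hr.le hr.le (fun i => (c i).toMul⁻¹)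
  rw [hn] at h
  rw [← h]
  congr 1
  funext i
  exact (map_inv (pl f) (c i).toMul).symm

include hr in
theorem finrank_two (a : A.left) : (𝟙 A ^ 2 : A ⟶ A).left.finrank a = 2 ^ (2 * r) := by
  have h := (Groth.Agent.S1842.result K A r hr 2 two_ne_zero).2.2 a
  exact h

include hr in
theorem isFinite_two : IsFinite (𝟙 A ^ 2 : A ⟶ A).left := by
  have h := (Groth.Agent.S1842.result K A r hr 2 two_ne_zero).1
  exact h

include hr in
theorem flat_two : Flat (𝟙 A ^ 2 : A ⟶ A).left := by
  have h := (Groth.Agent.S1842.result K A r hr 2 two_ne_zero).2.1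
  exact h

section Inv

variable [IsAlgClosed K]

/-- Symmetric or translation invariant. -/
def Good (x : Additive (Pic A.left)) : Prop := x.toMul ∈ Inv A ∨ pl (𝟙 A)⁻¹ x.toMul = x.toMul

theorem Good.two {x : Additive (Pic A.left)} (h : Good x) : ∃ e : ℕ, e ≤ 2 ∧ (x.toMul ∈ Inv A → e = 1) ∧
    Additive.ofMul (pl (𝟙 A ^ 2 : A ⟶ A) x.toMul) = ((2 : ℤ) ^ e) • x := by
  by_cases h1 : x.toMul ∈ Inv A
  · refine ⟨1, by norm_num, fun _ => rfl, ?_⟩
    rw [pl_pow_of_inv h1, pl_id, pow_one, ofMul_pow, ofMul_toMul]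
    exact (two_zsmul x).trans (two_nsmul x).symm |>.symm
  · have h2 := h.resolve_left h1
    refine ⟨2, le_rfl, fun h => absurd h h1, ?_⟩
    have h3 := pl_pow_of_symm x.toMul (𝟙 A) h2 2
    rw [h3, pl_id, ofMul_pow, ofMul_toMul]
    exact (natCast_zsmul x (2 ^ 2)).symm

theorem J_eq_zero_of_good (c : Fin r → Additive (Pic A.left)) (hc : ∀ i, Good (c i)) (i₀ : Fin r)
    (hi : (c i₀).toMul ∈ Inv A) : JA hr c = 0 := by
  choose e he1 he2 he3 using fun i => (hc i).two
  have := isFinite_two hr
  have := flat_two hr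
  have h1 := J_pl hr (𝟙 A ^ 2 : A ⟶ A) (2 ^ (2 * r)) (finrank_two hr) c
  have h2 : (fun i => Additive.ofMul (pl (𝟙 A ^ 2 : A ⟶ A) (c i).toMul)) = fun i => ((2 : ℤ) ^ e i) • c i := funext he3
  rw [h2, (JA hr).map_smul_univ, Finset.prod_pow_eq_pow_sum, smul_eq_mul] at h1
  have h3 : ∑ i, e i < 2 * r := by
    have h4 : ∑ i, e i < ∑ _i : Fin r, 2 :=
      Finset.sum_lt_sum (fun i _ => he1 i) ⟨i₀, Finset.mem_univ _, by rw [he2 i₀ hi]; norm_num⟩
    simpa [mul_comm] using h4
  by_contra h0
  have h5 : (2 : ℤ) ^ (∑ i, e i) = 2 ^ (2 * r) := by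
    apply mul_right_cancel₀ h0
    rw [h1]
    push_cast
    rfl
  have h6 := Int.pow_right_injective (by norm_num) h5
  exact absurd h6 h3.ne

theorem inv_mul_mem_Inv (x : Pic A.left) : x * (pl (𝟙 A)⁻¹ x)⁻¹ ∈ Inv A := by
  have : IsCommMonObj A := isCommMonObj_of_isProper_of_geometricallyIntegral A
  intro y
  rw [phi_mul_left, phi_inv_left, phi_pl, pl_inv_of_inv (phi_mem_Inv x _), pl_id, GrpObj.comp_inv, Category.comp_id,
    phi_inv, inv_inv, mul_inv_cancel]

/-- **Translation-invariant classes are numerically trivial.** -/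
theorem J_eq_zero_of_inv (c : Fin r → Additive (Pic A.left)) (i₀ : Fin r) (hi : (c i₀).toMul ∈ Inv A) :
    JA hr c = 0 := by
  classical
  have key : ∀ s : Finset (Fin r), ∀ c : Fin r → Additive (Pic A.left), (c i₀).toMul ∈ Inv A →
      (∀ i, i ∉ s → Good (c i)) → JA hr c = 0 := by
    intro s
    induction s using Finset.induction with
    | empty => exact fun c h1 h2 => J_eq_zero_of_good hr c (fun i => h2 i (Finset.notMem_empty i)) i₀ h1
    | insert j s hj ih =>
      intro c h1 h2
      by_cases hj0 : j = i₀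
      · refine ih c h1 fun i hi => ?_
        by_cases hij : i = j
        · subst hij; subst hj0; exact Or.inl h1
        · exact h2 i fun h => (Finset.mem_insert.mp h).elim hij hi
      · have e1 : JA hr (Function.update c j (Additive.ofMul ((c j).toMul * pl (𝟙 A)⁻¹ (c j).toMul))) = 0 := by
          refine ih _ ?_ fun i hi => ?_
          · rw [Function.update_of_ne (Ne.symm hj0)]; exact h1
          · by_cases hij : i = j
            · subst hij
              rw [Function.update_self]
              exact Or.inr (pl_inv_symm _)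
            · rw [Function.update_of_ne hij]
              exact h2 i fun h => (Finset.mem_insert.mp h).elim hij hi
        have e2 : JA hr (Function.update c j (Additive.ofMul ((c j).toMul * (pl (𝟙 A)⁻¹ (c j).toMul)⁻¹))) = 0 := by
          refine ih _ ?_ fun i hi => ?_
          · rw [Function.update_of_ne (Ne.symm hj0)]; exact h1
          · by_cases hij : i = j
            · subst hij
              rw [Function.update_self]
              exact Or.inl (inv_mul_mem_Inv _)
            · rw [Function.update_of_ne hij]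
              exact h2 i fun h => (Finset.mem_insert.mp h).elim hij hi
        have e3 := (JA hr).map_update_add c j (Additive.ofMul ((c j).toMul * pl (𝟙 A)⁻¹ (c j).toMul))
          (Additive.ofMul ((c j).toMul * (pl (𝟙 A)⁻¹ (c j).toMul)⁻¹))
        rw [e1, e2, add_zero] at e3
        have e4 : Additive.ofMul ((c j).toMul * pl (𝟙 A)⁻¹ (c j).toMul) +
            Additive.ofMul ((c j).toMul * (pl (𝟙 A)⁻¹ (c j).toMul)⁻¹) = (2 : ℤ) • c j := by
          rw [ofMul_mul, ofMul_mul, ofMul_inv, ofMul_toMul]
          module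
        rw [e4, (JA hr).map_update_smul, Function.update_eq_self] at e3
        simpa using e3
  exact key Finset.univ c hi fun i h => absurd (Finset.mem_univ i) h

end Inv

end K518.AVNum
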