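import Groth.Agent.S0383
import Groth.Prelude.Def_EndRing
import Mathlib.AlgebraicGeometry.Morphisms.Proper
import Mathlib.AlgebraicGeometry.Geometrically.Integral
import Mathlib.AlgebraicGeometry.Morphisms.Separated

/-!
# Abelian varieties over a field: elementary facts

* `isIntegral_left`, `isSeparated_left`: the underlying scheme is integral / separated.
* `hom_ext_dominant`: two morphisms to a separated scheme agreeing after a dominant morphism are equal.
* `eq_one_of_zpow_eq_one`: `Hom(A, B)` has no torsion.
-/

set_option autoImplicit false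
universe u

open CategoryTheory MonoidalCategory CartesianMonoidalCategory MonObj GrpObj AlgebraicGeometry

namespace K518.Basic

variable {k : Type u} [Field k] {A B : Over (Spec (CommRingCat.of k))}

theorem isIntegral_left (A : Over (Spec (CommRingCat.of k))) [GeometricallyIntegral A.hom] : IsIntegral A.left :=
  GeometricallyIntegral.isIntegral_of_subsingleton A.hom

theorem isSeparated_left (A : Over (Spec (CommRingCat.of k))) [IsSeparated A.hom] : A.left.IsSeparated := by
  constructor
  have h6 : IsSeparated (A.hom ≫ Limits.terminal.from _) := inferInstance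
  rwa [Subsingleton.elim (Limits.terminal.from A.left) (A.hom ≫ Limits.terminal.from _)]

theorem isProper_left (f : A ⟶ B) [IsProper A.hom] [IsSeparated B.hom] : IsProper f.left := by
  have h1 : IsProper (f.left ≫ B.hom) := by
    rw [Over.w]
    infer_instance
  exact IsProper.of_comp _ B.hom

/-- Morphisms from an abelian variety to a separated scheme are determined by their composite with a
dominant morphism. -/
theorem hom_ext_dominant {T A B : Over (Spec (CommRingCat.of k))} [GeometricallyIntegral A.hom]
    [IsSeparated B.hom] (p : T ⟶ A) [IsDominant p.left] {f g : A ⟶ B} (h : p ≫ f = p ≫ g) : f = g := by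
  have : IsIntegral A.left := isIntegral_left A
  ext1
  exact ext_of_isDominant_of_isSeparated B.hom ((Over.w f).trans (Over.w g).symm) p.left
    (by rw [← Over.comp_left, h, Over.comp_left])

variable [GrpObj A] [GrpObj B]

/-- Multiplication by `n` commutes with homomorphisms. -/
theorem pow_comp_hom (f : A ⟶ B) [IsMonHom f] (n : ℕ) : ((𝟙 A) ^ n) ≫ f = f ^ n := by
  rw [MonObj.pow_comp, Category.id_comp]

theorem surjective_pow [IsProper A.hom] [GeometricallyIntegral A.hom] (n : ℕ) (hn : 1 ≤ n) :
    Surjective ((𝟙 A ^ n).left) :=
  Groth.Agent.S0383.result k A n hn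

/-- `Hom(A, B)` is torsion free. -/
theorem eq_one_of_pow_eq_one [IsProper A.hom] [GeometricallyIntegral A.hom] [IsSeparated B.hom]
    (f : A ⟶ B) [IsMonHom f] (n : ℕ) (hn : 1 ≤ n) (h : f ^ n = 1) : f = 1 := by
  have hs : Surjective ((𝟙 A ^ n).left) := surjective_pow n hn
  have : IsDominant ((𝟙 A ^ n).left) := inferInstance
  apply hom_ext_dominant (𝟙 A ^ n)
  rw [pow_comp_hom, h, MonObj.comp_one]

theorem eq_one_of_zpow_eq_one [IsProper A.hom] [GeometricallyIntegral A.hom] [IsSeparated B.hom]
    (f : A ⟶ B) [IsMonHom f] (n : ℤ) (hn : n ≠ 0) (h : f ^ n = 1) : f = 1 := by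
  apply eq_one_of_pow_eq_one f n.natAbs (Int.natAbs_pos.mpr hn)
  rcases Int.natAbs_eq n with hn' | hn'
  · rw [hn'] at h
    exact_mod_cast h
  · rw [hn', zpow_neg, inv_eq_one] at h
    exact_mod_cast h

end K518.Basic
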