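import Groth.Agent.Pic13.H970.IntForm
import Groth.Agent.Fga.PosMain
import Mathlib.LinearAlgebra.Multilinear.Basic

/-!
# Intersection numbers as a symmetric multilinear form

`J k X r hr : MultilinearMap ℤ (fun _ : Fin r => Additive (Pic X)) ℤ`, `(c_1, …, c_r) ↦ (c_1 ⋯ c_r)`, for `X` proper of
dimension at most `r` over `k`.
-/

set_option autoImplicit false
universe u

open CategoryTheory CategoryTheory.Limits AlgebraicGeometry Opposite TopologicalSpace
open Groth.Agent Groth.Agent.Grpsch.PicGrp Groth.Agent.Pic13.H970.IntForm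

namespace K518.IntMul

variable (k : Type u) [Field k] (X : Scheme.{u}) [X.Over (Spec (CommRingCat.of k))]
  [IsProper (X ↘ Spec (CommRingCat.of k))] (r : ℕ)

theorem dim_support {X : Scheme.{u}} (F : X.Modules) {r : ℕ} (hr : topologicalKrullDim X ≤ r) :
    topologicalKrullDim (CohB1.support F) ≤ r :=
  (Topology.IsInducing.subtypeVal.topologicalKrullDim_le (Y := CohB1.support F)).trans hr

theorem mem_support_unit {X : Scheme.{u}} (x : X) : x ∈ CohB1.support (Coh.structureModule X) := by
  intro hsub
  have h1 : (Coh.structureModule X).presheaf.germ ⊤ x (Opens.mem_top _) (Fdesc.LocGen.one ⊤) = 0 :=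
    Subsingleton.elim _ _
  obtain ⟨V, hVU, hxV, hV⟩ := Fga.RegSec.exists_res_eq_zero (Coh.structureModule X) (Opens.mem_top _) _ h1
  have h2 : Fdesc.LocGen.one (X := X) V = 0 := by
    rw [← Fdesc.LocGen.res_one hVU]
    exact hV
  have h5 : (1 : Γ(X, V)) = 0 := by
    apply (Fdesc.LocGen.isGen_one V).ext
    rw [h2, smul_zero, smul_zero]
  have : Nonempty V := ⟨⟨x, hxV⟩⟩
  exact one_ne_zero h5

theorem support_unit (X : Scheme.{u}) : CohB1.support (Coh.structureModule X) = Set.univ :=
  Set.eq_univ_of_forall mem_support_unit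

theorem dim_support_unit (X : Scheme.{u}) :
    topologicalKrullDim (CohB1.support (Coh.structureModule X)) = topologicalKrullDim X := by
  rw [support_unit]
  exact (Homeomorph.Set.univ X).isHomeomorph.topologicalKrullDim_eq

omit [IsProper (X ↘ Spec (CommRingCat.of k))] in
/-- moving index `i` to the front -/
theorem I_update {F : X.Modules} {r : ℕ} (d : ℕ) (c : Fin (r + 1) → Pic X) (i : Fin (r + 1)) (x : Pic X) :
    I k X d F (Function.update c i x) =
      I k X d F (Fin.cons x (fun j => c (Equiv.swap 0 i j.succ)) : Fin (r + 1) → Pic X) := by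
  rw [← I_perm k X d F (Function.update c i x) (Equiv.swap 0 i)]
  congr 1
  funext j
  cases j using Fin.cases with
  | zero => rw [Equiv.swap_apply_left, Function.update_self]; rfl
  | succ j =>
    rw [Fin.cons_succ, Function.update_of_ne]
    intro h
    have h1 : (Equiv.swap 0 i) (Fin.succ j) = (Equiv.swap 0 i) 0 := by rw [h, Equiv.swap_apply_left]
    exact Fin.succ_ne_zero j ((Equiv.swap 0 i).injective h1)

variable {r} (hr : topologicalKrullDim X ≤ r)

theorem comp_update {V W : Type*} (f : V → W) {r : ℕ} (c : Fin r → V) (i : Fin r) (x : V) :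
    (fun j => f (Function.update c i x j)) = Function.update (fun j => f (c j)) i (f x) := by
  funext j
  by_cases hj : j = i
  · subst hj; simp
  · simp [hj]

/-- The intersection form. -/
noncomputable def J : MultilinearMap ℤ (fun _ : Fin r => Additive (Pic X)) ℤ where
  toFun c := I k X r (Coh.structureModule X) (fun i => (c i).toMul⁻¹)
  map_update_add' {inst} c i x y := by
    have : inst = instDecidableEqFin r := Subsingleton.elim _ _
    subst this
    obtain _ | r := r
    · exact i.elim0
    simp only [comp_update (fun x : Additive (Pic X) => (x.toMul)⁻¹), toMul_add, mul_inv, I_update]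
    exact I_cons_mul k X _ hr _ (CurvesC.UnitCoh.isCoh_unit X) _ _ _ (dim_support _ hr)
  map_update_smul' {inst} c i n x := by
    have : inst = instDecidableEqFin r := Subsingleton.elim _ _
    subst this
    obtain _ | r := r
    · exact i.elim0
    simp only [comp_update (fun x : Additive (Pic X) => (x.toMul)⁻¹), toMul_zsmul, ← inv_zpow, I_update, smul_eq_mul]
    exact I_cons_zpow k X _ hr _ (CurvesC.UnitCoh.isCoh_unit X) _ _ _ (dim_support _ hr)

theorem J_apply (c : Fin r → Additive (Pic X)) :
    J k X hr c = I k X r (Coh.structureModule X) (fun i => (c i).toMul⁻¹) := rfl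

theorem J_perm (c : Fin r → Additive (Pic X)) (σ : Equiv.Perm (Fin r)) : J k X hr (fun i => c (σ i)) = J k X hr c :=
  I_perm k X r _ (fun i => (c i).toMul⁻¹) σ

theorem J_update_swap (i j : Fin r) (x y : Additive (Pic X)) :
    J k X hr (Function.update (fun _ => x) i y) = J k X hr (Function.update (fun _ => x) j y) := by
  rw [← J_perm k X hr (Function.update (fun _ => x) i y) (Equiv.swap j i)]
  congr 1
  funext l
  by_cases hl : l = j
  · subst hl; rw [Equiv.swap_apply_left, Function.update_self, Function.update_self]
  · rw [Function.update_of_ne hl]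
    by_cases hl' : l = i
    · subst hl'
      rw [Equiv.swap_apply_right, Function.update_of_ne (Ne.symm hl)]
    · rw [Equiv.swap_apply_of_ne_of_ne hl hl', Function.update_of_ne hl']

/-- Positivity for ample classes. -/
theorem J_pos (hr' : topologicalKrullDim X = r) (L : Fin r → X.Modules) (hL : ∀ i, CohB1.IsAmple (L i))
    (hLi : ∀ i, PicF.IsInvertible (L i)) : 0 < J k X hr (fun i => Additive.ofMul (mk (L i) (hLi i))) := by
  refine I_pos k X r hr (Coh.structureModule X) (CurvesC.UnitCoh.isCoh_unit X) L hL hLi ?_
  rw [dim_support_unit, hr']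

end K518.IntMul
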